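import Groth.Agent.Lib.ProEtEps19.Acyclic
import Mathlib.CategoryTheory.Adjunction.FullyFaithful
import Mathlib.CategoryTheory.Adjunction.Unique
import Groth.Prelude.Def_WeakSerre

/-! Cohomology of pull-backs from the étale to the pro-étale site. -/

universe u

open CategoryTheory Limits AlgebraicGeometry Opposite Abelian

namespace Groth.Agent.ProEtEps19

set_option backward.isDefEq.respectTransparency false
set_option backward.isDefEq.respectTransparency.types false
set_option linter.style.haveILetI false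
set_option linter.unusedSectionVars false
set_option maxHeartbeats 800000

variable {X : Scheme.{u}} [ProEtS.EpsCont X]

instance isIso_unit_app (F : EtCoh.Ab X) : IsIso ((ProEtS.epsAdj X).unit.app F) := isIso_unit F

instance isIso_unit_eps : IsIso (ProEtS.epsAdj X).unit := NatIso.isIso_of_isIso_app _

instance full_epsPull : (ProEtS.epsPull X).Full := (ProEtS.epsAdj X).fullyFaithfulLOfIsIsoUnit.full

instance faithful_epsPull : (ProEtS.epsPull X).Faithful := (ProEtS.epsAdj X).fullyFaithfulLOfIsIsoUnit.faithful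

/-- The constant sheaf of the pro-étale site is pulled back from the étale site. -/
noncomputable def constIso (A : AddCommGrpCat.{u + 1}) :
    (constantSheaf (Scheme.ProEt.topology X) AddCommGrpCat.{u + 1}).obj A ≅
      (ProEtS.epsPull X).obj ((constantSheaf X.smallEtaleTopology AddCommGrpCat.{u + 1}).obj A) :=
  (Adjunction.leftAdjointUniq
    (constantSheafAdj (Scheme.ProEt.topology X) AddCommGrpCat.{u + 1}
      (T := (ProEtS.eps X).obj (EtCoh.top X)) (MorphismProperty.Over.mkIdTerminal _ X))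
    ((constantSheafAdj X.smallEtaleTopology AddCommGrpCat.{u + 1}
      (T := EtCoh.top X) (MorphismProperty.Over.mkIdTerminal _ X)).comp (ProEtS.epsAdj X))).app A

theorem subsingleton_ext_eps (A I : EtCoh.Ab X) [Injective I] (n : ℕ) :
    Subsingleton (Ext ((ProEtS.epsPull X).obj A) ((ProEtS.epsPull X).obj I) (n + 1)) :=
  subsingleton_ext A n _ (acyc_epsPull I)

theorem mapExt_bijective (A F : EtCoh.Ab X) (n : ℕ) :
    Function.Bijective ((ProEtS.epsPull X).mapExtAddHom A F n) := by
  induction n generalizing F with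
  | zero =>
    rw [Functor.mapExtAddHom_coe, Ext.mapExactFunctor₀]
    exact Ext.homEquiv₀.symm.bijective.comp
      (Function.Bijective.comp ⟨(ProEtS.epsPull X).map_injective, (ProEtS.epsPull X).map_surjective⟩
        Ext.homEquiv₀.bijective)
  | succ n hn =>
    let S := ShortComplex.mk _ _ (cokernel.condition (Injective.ι F))
    have hS : S.ShortExact := { exact := ShortComplex.exact_cokernel _ }
    haveI : Injective S.X₂ := inferInstanceAs (Injective (Injective.under F))
    haveI h2 := subsingleton_ext_eps A S.X₂ n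
    haveI : Subsingleton (Ext ((ProEtS.epsPull X).obj A) (S.map (ProEtS.epsPull X)).X₂ (n + 1)) := h2
    haveI := Ext.subsingleton_of_injective (C := EtCoh.Ab X) A S.X₂ n
    exact AddMonoidHom.bijective_of_surjective_of_bijective_of_right_exact _ _ _ _
      ((ProEtS.epsPull X).mapExtAddHom A S.X₂ n) ((ProEtS.epsPull X).mapExtAddHom A S.X₃ n)
      ((ProEtS.epsPull X).mapExtAddHom A S.X₁ (n + 1))
      (by ext x; simp [Ext.mapExactFunctor_comp, Ext.mapExactFunctor_mk₀]; rfl)
      (by ext x; simp [Ext.mapExactFunctor_comp, Ext.mapExactFunctor_extClass]; rfl)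
      ((ShortComplex.ab_exact_iff_function_exact _).mp
        (Ext.covariant_sequence_exact₃' A hS n (n + 1) rfl))
      ((ShortComplex.ab_exact_iff_function_exact _).mp
        (Ext.covariant_sequence_exact₃' ((ProEtS.epsPull X).obj A) (hS.map_of_exact _) n (n + 1) rfl))
      (hn _).surjective (hn _)
      (fun x₁ ↦ Ext.covariant_sequence_exact₁ _ hS x₁ (Subsingleton.elim _ _) rfl)
      (fun y₁ ↦ Ext.covariant_sequence_exact₁ _ (hS.map_of_exact _) y₁ (Subsingleton.elim _ _) rfl)

theorem nonempty_H_equiv (F : EtCoh.Ab X) (i : ℕ) :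
    Nonempty (EtCoh.H X F i ≃+ ProEtS.HP X ((ProEtS.epsPull X).obj F) i) :=
  let e := constIso (X := X) (AddCommGrpCat.of (ULift ℤ))
  have hf : Function.Bijective ((Ext.mk₀ e.hom).precomp ((ProEtS.epsPull X).obj F) (zero_add i)) :=
    Function.bijective_iff_has_inverse.2
      ⟨fun y => (Ext.mk₀ e.inv).comp y (zero_add i),
        fun y => by
          show (Ext.mk₀ e.inv).comp ((Ext.mk₀ e.hom).comp y (zero_add i)) (zero_add i) = y
          rw [Ext.mk₀_comp_mk₀_assoc, e.inv_hom_id, Ext.mk₀_id_comp],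
        fun y => by
          show (Ext.mk₀ e.hom).comp ((Ext.mk₀ e.inv).comp y (zero_add i)) (zero_add i) = y
          rw [Ext.mk₀_comp_mk₀_assoc, e.hom_inv_id, Ext.mk₀_id_comp]⟩
  ⟨(AddEquiv.ofBijective _ (mapExt_bijective _ F i)).trans (AddEquiv.ofBijective _ hf)⟩

theorem isZero_repsPush_eps : ∀ (q : ℕ) (F : EtCoh.Ab X),
    IsZero ((ProEtS.RepsPush X (q + 1)).obj ((ProEtS.epsPull X).obj F)) := by
  intro q
  induction q with
  | zero =>
    intro F
    let S := ShortComplex.mk _ _ (cokernel.condition (Injective.ι F))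
    have hS : S.ShortExact := { exact := ShortComplex.exact_cokernel _ }
    haveI : Injective S.X₂ := inferInstanceAs (Injective (Injective.under F))
    obtain ⟨e⟩ := SheafVan16.nonempty_rightDerived_one_iso_cokernel (ProEtS.epsPush X)
      (hS.map_of_exact (ProEtS.epsPull X)) (isZero_repsPush 0 _ (acyc_epsPull S.X₂))
    haveI := hS.epi_g
    haveI : Epi ((ProEtS.epsPush X).map ((ProEtS.epsPull X).map S.g)) := by
      haveI : Epi (S.g ≫ (ProEtS.epsAdj X).unit.app S.X₃) := inferInstance
      have h := (ProEtS.epsAdj X).unit.naturality S.g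
      simp only [Functor.id_map, Functor.comp_map] at h
      haveI : Epi ((ProEtS.epsAdj X).unit.app S.X₂ ≫ (ProEtS.epsPush X).map ((ProEtS.epsPull X).map S.g)) :=
        h ▸ this
      exact epi_of_epi ((ProEtS.epsAdj X).unit.app S.X₂) _
    haveI : Epi ((ProEtS.epsPush X).map (S.map (ProEtS.epsPull X)).g) := this
    exact (isZero_cokernel_of_epi _).of_iso e
  | succ q ih =>
    intro F
    let S := ShortComplex.mk _ _ (cokernel.condition (Injective.ι F))
    have hS : S.ShortExact := { exact := ShortComplex.exact_cokernel _ }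
    haveI : Injective S.X₂ := inferInstanceAs (Injective (Injective.under F))
    obtain ⟨e⟩ := SheafVan16.nonempty_rightDerived_succ_iso (ProEtS.epsPush X)
      (hS.map_of_exact (ProEtS.epsPull X)) q (isZero_repsPush q _ (acyc_epsPull S.X₂))
      (isZero_repsPush (q + 1) _ (acyc_epsPull S.X₂))
    exact (ih S.X₃).of_iso e

theorem isWeakSerre_essImage (S : ObjectProperty (EtCoh.Ab X)) [WSerre.IsWeakSerre S] :
    WSerre.IsWeakSerre (fun F : ProEtS.AbP X =>
      ∃ G : EtCoh.Ab X, S G ∧ Nonempty ((ProEtS.epsPull X).obj G ≅ F)) where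
  exists_zero := by
    obtain ⟨Z, hZ, hS⟩ := S.exists_prop_of_containsZero
    exact ⟨_, (ProEtS.epsPull X).map_isZero hZ, Z, hS, ⟨Iso.refl _⟩⟩
  kernels_le := by
    rintro _ ⟨f, k, hk, ⟨⟨A, hA, ⟨eA⟩⟩, ⟨B, hB, ⟨eB⟩⟩⟩⟩
    obtain ⟨g, hg⟩ := (ProEtS.epsPull X).map_surjective (eA.hom ≫ f ≫ eB.inv)
    exact ⟨kernel g, S.prop_kernel g hA hB, ⟨PreservesKernel.iso _ g ≪≫
      kernel.mapIso _ _ eA eB (by rw [hg]; simp) ≪≫
      IsLimit.conePointUniqueUpToIso (limit.isLimit (parallelPair f 0)) hk⟩⟩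
  cokernels_le := by
    rintro _ ⟨f, k, hk, ⟨⟨A, hA, ⟨eA⟩⟩, ⟨B, hB, ⟨eB⟩⟩⟩⟩
    obtain ⟨g, hg⟩ := (ProEtS.epsPull X).map_surjective (eA.hom ≫ f ≫ eB.inv)
    exact ⟨cokernel g, S.prop_cokernel g hA hB, ⟨PreservesCokernel.iso _ g ≪≫
      cokernel.mapIso _ _ eA eB (by rw [hg]; simp) ≪≫
      IsColimit.coconePointUniqueUpToIso (colimit.isColimit (parallelPair f 0)) hk⟩⟩
  prop_X₂_of_shortExact := by
    rintro T hT ⟨A, hA, ⟨eA⟩⟩ ⟨B, hB, ⟨eB⟩⟩
    let P := ProEtS.epsPush X
    haveI hiso : ∀ (G : EtCoh.Ab X) (H : ProEtS.AbP X) (e : (ProEtS.epsPull X).obj G ≅ H),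
        IsIso ((ProEtS.epsAdj X).counit.app H) := fun G H e => by
      refine (NatTrans.isIso_app_iff_of_iso _ e).1 ?_
      have h := (ProEtS.epsAdj X).left_triangle_components G
      haveI : IsIso ((ProEtS.epsPull X).map ((ProEtS.epsAdj X).unit.app G)) := inferInstance
      exact IsIso.of_isIso_fac_left h
    haveI h1 := hiso A T.X₁ eA
    haveI h3 := hiso B T.X₃ eB
    haveI := hT.mono_f
    haveI : Mono (T.map P).f := inferInstanceAs (Mono (P.map T.f))
    haveI : Epi (T.map P).g := by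
      obtain ⟨T'⟩ := RDerLES.exists_sesRes hT
      obtain ⟨w, he⟩ := (RDerLES.exact_sequences P T' 0 1 rfl).2.1
      have hz : IsZero ((P.rightDerived 1).obj T.X₁) :=
        (isZero_repsPush_eps 0 A).of_iso ((P.rightDerived 1).mapIso eA.symm)
      haveI : Epi ((P.rightDerived 0).map T.g) := he.epi_f (hz.eq_of_tgt _ _)
      show Epi (P.map T.g)
      have h := P.rightDerivedZeroIsoSelf.hom.naturality T.g
      haveI : Epi (P.rightDerivedZeroIsoSelf.hom.app T.X₂ ≫ P.map T.g) := h ▸ (inferInstance :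
        Epi ((P.rightDerived 0).map T.g ≫ P.rightDerivedZeroIsoSelf.hom.app T.X₃))
      exact epi_of_epi (P.rightDerivedZeroIsoSelf.hom.app T.X₂) _
    have hP : (T.map P).ShortExact :=
      { exact := hT.exact.map_of_mono_of_preservesKernel P ‹_› inferInstance }
    let ψ : (T.map P).map (ProEtS.epsPull X) ⟶ T :=
      { τ₁ := (ProEtS.epsAdj X).counit.app T.X₁
        τ₂ := (ProEtS.epsAdj X).counit.app T.X₂
        τ₃ := (ProEtS.epsAdj X).counit.app T.X₃
        comm₁₂ := ((ProEtS.epsAdj X).counit.naturality T.f).symm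
        comm₂₃ := ((ProEtS.epsAdj X).counit.naturality T.g).symm }
    haveI : IsIso ψ.τ₁ := h1
    haveI : IsIso ψ.τ₃ := h3
    haveI := ShortComplex.isIso₂_of_shortExact_of_isIso₁₃ ψ (hP.map_of_exact _) hT
    refine ⟨P.obj T.X₂, S.prop_X₂_of_shortExact hP ?_ ?_, ⟨asIso ψ.τ₂⟩⟩
    · exact S.prop_of_iso ((asIso ((ProEtS.epsAdj X).unit.app A)) ≪≫ P.mapIso eA) hA
    · exact S.prop_of_iso ((asIso ((ProEtS.epsAdj X).unit.app B)) ≪≫ P.mapIso eB) hB

end Groth.Agent.ProEtEps19
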