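import Groth.Agent.Lib.ProEtEps19.EtaleCase
import Mathlib.CategoryTheory.Limits.Final
import Mathlib.CategoryTheory.Filtered.Final

/-! Čech exactness of the pull-back of an injective sheaf on the basis. -/

universe u

open CategoryTheory Limits AlgebraicGeometry Opposite TopologicalSpace

namespace Groth.Agent.ProEtEps19

set_option backward.isDefEq.respectTransparency false
set_option backward.isDefEq.respectTransparency.types false
set_option linter.style.haveILetI false
set_option maxHeartbeats 800000

open Groth.Agent.ProEtWC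

variable {X : Scheme.{u}}

/-- The forgetful functor to schemes. -/
abbrev toSch (X : Scheme.{u}) : X.ProEt ⥤ Scheme.{u} := Scheme.ProEt.forget X ⋙ Over.forget X

section Spec

variable (Y : X.ProEt) [IsAffine Y.left]

/-- The map to the base of an affine member. -/
noncomputable abbrev specTo {A : CommRingCat.{u}} (s : Γ(Y.left, ⊤) ⟶ A) : Spec A ⟶ Y.left :=
  Spec.map s ≫ Y.left.isoSpec.inv

theorem etale_specTo {A : CommRingCat.{u}} {s : Γ(Y.left, ⊤) ⟶ A} (hs : WLocal.etaleMP s) :
    Etale (specTo Y s) := by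
  haveI : Etale (Spec.map s) := (HasRingHomProperty.Spec_iff (P := @Etale)).2 hs
  infer_instance

theorem isoSpec_specTo {W : X.ProEt} [IsAffine W.left] (g : W ⟶ Y) {A : CommRingCat.{u}}
    {s : Γ(Y.left, ⊤) ⟶ A} {t : A ⟶ Γ(W.left, ⊤)} (h : s ≫ t = g.left.appTop) :
    (W.left.isoSpec.hom ≫ Spec.map t) ≫ specTo Y s = g.left := by
  unfold specTo
  rw [Category.assoc, ← Category.assoc (Spec.map t), ← Spec.map_comp, h]
  erw [Scheme.isoSpec_inv_naturality g.left]
  exact (Category.assoc _ _ _).symm.trans
    ((congrArg (· ≫ g.left) W.left.isoSpec.hom_inv_id).trans (Category.id_comp _))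

variable {J : Type u} [SmallCategory J] [IsFiltered J] {D : J ⥤ CommRingCat.{u}}
  (s : (Functor.const J).obj Γ(Y.left, ⊤) ⟶ D) (hs : ∀ j, WLocal.etaleMP (s.app j))

/-- The affine members as objects of the site. -/
noncomputable def specSys : Jᵒᵖ ⥤ X.ProEt where
  obj j := haveI := etale_specTo Y (hs j.unop); overObj Y (specTo Y (s.app j.unop))
  map {i j} a := MorphismProperty.Over.homMk (Spec.map (D.map a.unop)) (by
    show Spec.map (D.map a.unop) ≫ (Spec.map (s.app j.unop) ≫ Y.left.isoSpec.inv) ≫ Y.hom =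
      (Spec.map (s.app i.unop) ≫ Y.left.isoSpec.inv) ≫ Y.hom
    rw [← Category.assoc, ← Category.assoc (Spec.map (D.map _)), ← Spec.map_comp]
    have := s.naturality a.unop
    simp only [Functor.const_obj_obj, Functor.const_obj_map, Category.id_comp] at this
    rw [← this])
  map_id j := MorphismProperty.Over.Hom.ext (by
    show Spec.map (D.map (𝟙 j.unop)) = 𝟙 _
    rw [D.map_id, Spec.map_id])
  map_comp {i j k} a b := MorphismProperty.Over.Hom.ext (by
    show Spec.map (D.map (b.unop ≫ a.unop)) = Spec.map (D.map a.unop) ≫ Spec.map (D.map b.unop)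
    rw [D.map_comp, Spec.map_comp])

instance (j : Jᵒᵖ) : IsAffine ((specSys Y s hs).obj j).left :=
  inferInstanceAs (IsAffine (Spec (D.obj j.unop)))

/-- The structure maps to the base. -/
noncomputable def specGam : specSys Y s hs ⟶ (Functor.const Jᵒᵖ).obj Y where
  app j := haveI := etale_specTo Y (hs j.unop); overHom Y (specTo Y (s.app j.unop))
  naturality i j a := MorphismProperty.Over.Hom.ext (by
    show Spec.map (D.map a.unop) ≫ Spec.map (s.app j.unop) ≫ Y.left.isoSpec.inv =
      (Spec.map (s.app i.unop) ≫ Y.left.isoSpec.inv) ≫ 𝟙 _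
    have := s.naturality a.unop
    simp only [Functor.const_obj_obj, Functor.const_obj_map, Category.id_comp] at this
    rw [← Category.assoc, ← Spec.map_comp, Category.comp_id, ← this])

theorem etale_specGam (j : Jᵒᵖ) : Etale ((specGam Y s hs).app j).left := etale_specTo Y (hs j.unop)

variable {W : X.ProEt} [IsAffine W.left] (g : W ⟶ Y) (t : D ⟶ (Functor.const J).obj Γ(W.left, ⊤))
  (hst : ∀ j, s.app j ≫ t.app j = g.left.appTop)

/-- The cone of the presentation. -/
noncomputable def specCone : Cone (specSys Y s hs) where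
  pt := W
  π :=
    { app := fun j => MorphismProperty.Over.homMk (W.left.isoSpec.hom ≫ Spec.map (t.app j.unop)) (by
        show (W.left.isoSpec.hom ≫ Spec.map (t.app j.unop)) ≫
          (Spec.map (s.app j.unop) ≫ Y.left.isoSpec.inv) ≫ Y.hom = W.hom
        rw [← Category.assoc]
        exact (congrArg (· ≫ Y.hom) (isoSpec_specTo Y g (hst j.unop))).trans
          (MorphismProperty.Over.w g))
      naturality := fun i j a => MorphismProperty.Over.Hom.ext (by
        show 𝟙 _ ≫ W.left.isoSpec.hom ≫ Spec.map (t.app j.unop) =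
          (W.left.isoSpec.hom ≫ Spec.map (t.app i.unop)) ≫ Spec.map (D.map a.unop)
        rw [Category.id_comp, Category.assoc, ← Spec.map_comp]
        have := t.naturality a.unop
        simp only [Functor.const_obj_obj, Functor.const_obj_map, Category.comp_id] at this
        rw [this]) }

theorem specCone_gam (j : Jᵒᵖ) : (specCone Y s hs g t hst).π.app j ≫ (specGam Y s hs).app j = g :=
  MorphismProperty.Over.Hom.ext (isoSpec_specTo Y g (hst j.unop))

/-- The cone is a limit of schemes. -/
noncomputable def isLimitSpecCone (ht : IsColimit (Cocone.mk _ t)) :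
    IsLimit ((toSch X).mapCone (specCone Y s hs g t hst)) :=
  let c : Cone (D.op ⋙ Scheme.Spec) := Scheme.Spec.mapCone (Cocone.mk _ t).op
  have hc : IsLimit c := isLimitOfPreserves Scheme.Spec ht.op
  IsLimit.ofIsoLimit hc (Cone.ext W.left.isoSpec.symm fun j => by
    show Spec.map (t.app j.unop) = W.left.isoSpec.inv ≫ W.left.isoSpec.hom ≫ Spec.map (t.app j.unop)
    rw [Iso.inv_hom_id_assoc])

end Spec

section Descend

variable {J : Type u} [SmallCategory J] [IsFiltered J] {D : J ⥤ CommRingCat.{u}}
  {Z Y W : X.ProEt} [IsAffine Z.left] [IsAffine Y.left] [IsAffine W.left]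
  (s : (Functor.const J).obj Γ(Z.left, ⊤) ⟶ D) (hs : ∀ j, WLocal.etaleMP (s.app j))
  (g : Y ⟶ Z) (t : D ⟶ (Functor.const J).obj Γ(Y.left, ⊤))
  (hst : ∀ j, s.app j ≫ t.app j = g.left.appTop)

include hst in
theorem exists_descend (ht : IsColimit (Cocone.mk _ t)) (h : W ⟶ Y) [Etale h.left] :
    ∃ (i : Jᵒᵖ) (W₀ : X.ProEt) (_ : IsAffine W₀.left) (f : W₀ ⟶ (specSys Z s hs).obj i) (q : W ⟶ W₀),
      Etale f.left ∧ IsPullback h.left q.left ((specCone Z s hs g t hst).π.app i).left f.left := by
  have he : WLocal.etaleMP h.left.appTop :=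
    (HasRingHomProperty.iff_of_isAffine (P := @Etale)).1 inferInstance
  obtain ⟨j, T, f', g', hsq, hf'⟩ :=
    MorphismProperty.exists_isPushout_of_isFiltered.{u} (P := WLocal.etaleMP.{u}) ht h.left.appTop he
  haveI : Etale (Spec.map f') := (HasRingHomProperty.Spec_iff (P := @Etale)).2 hf'
  let S := (specSys Z s hs).obj (op j)
  let f0 : Spec T ⟶ S.left := Spec.map f'
  haveI : Etale f0 := ‹_›
  let W₀ : X.ProEt := overObj S f0
  let q0 : W.left ⟶ Spec T := W.left.isoSpec.hom ≫ Spec.map g'
  have hpb : IsPullback h.left q0 ((specCone Z s hs g t hst).π.app (op j)).left f0 :=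
    (isPullback_SpecMap_of_isPushout _ _ _ _ hsq).of_iso W.left.isoSpec.symm Y.left.isoSpec.symm
      (Iso.refl _) (Iso.refl _) (by
        show Spec.map h.left.appTop ≫ Y.left.isoSpec.inv = W.left.isoSpec.inv ≫ h.left
        exact Scheme.isoSpec_inv_naturality h.left)
      (by
        show Spec.map g' ≫ 𝟙 _ = W.left.isoSpec.inv ≫ q0
        simp [q0])
      (by
        show Spec.map (t.app j) ≫ 𝟙 _ =
          Y.left.isoSpec.inv ≫ Y.left.isoSpec.hom ≫ Spec.map (t.app j)
        simp)
      (by simp [f0])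
  let q : W ⟶ W₀ := MorphismProperty.Over.homMk q0 (by
    show q0 ≫ f0 ≫ S.hom = W.hom
    rw [← Category.assoc, ← hpb.w, Category.assoc]
    exact (congrArg (h.left ≫ ·)
      (MorphismProperty.Over.w ((specCone Z s hs g t hst).π.app (op j)))).trans
      (MorphismProperty.Over.w h))
  exact ⟨op j, W₀, inferInstanceAs (IsAffine (Spec T)), overHom S f0, q, ‹Etale f0›, hpb⟩

end Descend

section Base

variable {I : Type u} [SmallCategory I] [IsCofiltered I] {DY : I ⥤ X.ProEt} (cY : Cone DY)
  {i : I} {W W₀ : X.ProEt} (f : W₀ ⟶ DY.obj i) (h : W ⟶ cY.pt) (q : W ⟶ W₀)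
  (hq : IsPullback h.left q.left (cY.π.app i).left f.left)

/-- The base change of a map at a stage. -/
noncomputable def bcSys : Over i ⥤ X.ProEt where
  obj a := fib (DY.map a.hom) f
  map {a b} m := fibLift (fib₁ (DY.map a.hom) f ≫ DY.map m.left) (fib₂ (DY.map a.hom) f) (by
    rw [Category.assoc, ← DY.map_comp, Over.w m, fib_condition])
  map_id a := MorphismProperty.Over.Hom.ext (pullback.hom_ext
    ((pullback.lift_fst _ _ _).trans (by
      show pullback.fst _ _ ≫ (DY.map (𝟙 a.left)).left = 𝟙 _ ≫ pullback.fst _ _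
      rw [DY.map_id]
      exact (Category.comp_id _).trans (Category.id_comp _).symm))
    ((pullback.lift_snd _ _ _).trans (Category.id_comp _).symm))
  map_comp {a b c} m n := MorphismProperty.Over.Hom.ext (pullback.hom_ext
    ((pullback.lift_fst _ _ _).trans (by
      show pullback.fst _ _ ≫ (DY.map (m.left ≫ n.left)).left = (_ ≫ _) ≫ pullback.fst _ _
      refine Eq.trans ?_ (Category.assoc _ _ _).symm
      erw [pullback.lift_fst]
      show _ = _ ≫ pullback.fst _ _ ≫ (DY.map n.left).left
      erw [← Category.assoc, pullback.lift_fst, DY.map_comp]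
      exact (Category.assoc _ _ _).symm))
    ((pullback.lift_snd _ _ _).trans (by
      refine Eq.trans ?_ (Category.assoc _ _ _).symm
      erw [pullback.lift_snd, pullback.lift_snd])))

/-- The projection of the base change. -/
noncomputable def bcGam : bcSys f ⟶ Over.forget i ⋙ DY where
  app a := fib₁ (DY.map a.hom) f
  naturality _ _ _ := MorphismProperty.Over.Hom.ext (pullback.lift_fst _ _ _)

/-- The cone of the base change. -/
noncomputable def bcsCone : Cone (bcSys f) where
  pt := W
  π :=
    { app := fun a => fibLift (h ≫ cY.π.app a.left) q (by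
        rw [Category.assoc, cY.w]
        exact MorphismProperty.Over.Hom.ext hq.w)
      naturality := fun a b m => MorphismProperty.Over.Hom.ext (pullback.hom_ext (by
          show (𝟙 _ ≫ _) ≫ pullback.fst _ _ = (_ ≫ _) ≫ pullback.fst _ _
          rw [Category.id_comp]
          refine (pullback.lift_fst _ _ _).trans ?_
          refine Eq.trans ?_ (Category.assoc _ _ _).symm
          erw [pullback.lift_fst]
          show _ = _ ≫ pullback.fst _ _ ≫ (DY.map m.left).left
          erw [← Category.assoc, pullback.lift_fst]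
          exact (congrArg (h.left ≫ ·) (left_eq (cY.w m.left)).symm).trans (Category.assoc _ _ _).symm) (by
          show (𝟙 _ ≫ _) ≫ pullback.snd _ _ = (_ ≫ _) ≫ pullback.snd _ _
          rw [Category.id_comp]
          refine (pullback.lift_snd _ _ _).trans ?_
          refine Eq.trans ?_ (Category.assoc _ _ _).symm
          erw [pullback.lift_snd, pullback.lift_snd])) }

theorem bcsCone_gam (a : Over i) :
    h ≫ (cY.whisker (Over.forget i)).π.app a = (bcsCone cY f h q hq).π.app a ≫ (bcGam f).app a :=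
  MorphismProperty.Over.Hom.ext (pullback.lift_fst _ _ _).symm

/-- The base change of a limit is a limit. -/
noncomputable def isLimitBcsCone (hY : IsLimit ((toSch X).mapCone cY)) :
    IsLimit ((toSch X).mapCone (bcsCone cY f h q hq)) := by
  have hY' : IsLimit (((toSch X).mapCone cY).whisker (Over.forget i)) :=
    (Functor.Initial.isLimitWhiskerEquiv (Over.forget i) _).symm hY
  let c1 : ∀ s : Cone (bcSys f ⋙ toSch X), Cone (Over.forget i ⋙ DY ⋙ toSch X) := fun s =>
    { pt := s.pt
      π :=
        { app := fun a => s.π.app a ≫ ((bcGam f).app a).left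
          naturality := fun a b m => by
            show 𝟙 _ ≫ s.π.app b ≫ _ = (s.π.app a ≫ _) ≫ (DY.map m.left).left
            rw [Category.id_comp, ← s.w m, Category.assoc, Category.assoc]
            exact congrArg (s.π.app a ≫ ·) (left_eq ((bcGam f).naturality m)) } }
  let a0 : Over i := Over.mk (𝟙 i)
  let z : ∀ s : Cone (bcSys f ⋙ toSch X), s.pt ⟶ W₀.left := fun s =>
    s.π.app a0 ≫ (fib₂ (DY.map a0.hom) f).left
  have hz : ∀ (s : Cone (bcSys f ⋙ toSch X)) (a : Over i),
      s.π.app a ≫ (fib₂ (DY.map a.hom) f).left = z s := fun s a => by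
    let m : a ⟶ a0 := Over.homMk a.hom (Category.comp_id _)
    show _ = s.π.app a0 ≫ _
    rw [← s.w m, Category.assoc]
    exact congrArg (s.π.app a ≫ ·) (pullback.lift_snd _ _ _).symm
  have hw : ∀ s : Cone (bcSys f ⋙ toSch X), hY'.lift (c1 s) ≫ (cY.π.app i).left = z s ≫ f.left :=
    fun s => by
    refine (hY'.fac (c1 s) a0).trans ?_
    show s.π.app a0 ≫ (fib₁ (DY.map a0.hom) f).left = (s.π.app a0 ≫ _) ≫ f.left
    rw [Category.assoc]
    refine congrArg (s.π.app a0 ≫ ·) (Eq.trans ?_ pullback.condition)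
    show _ = _ ≫ (DY.map (𝟙 i)).left
    rw [DY.map_id]
    exact (Category.comp_id _).symm
  refine ⟨fun s => hq.lift (hY'.lift (c1 s)) (z s) (hw s), fun s a => pullback.hom_ext ?_ ?_,
    fun s m hm => hq.hom_ext ?_ ?_⟩
  · refine (Category.assoc _ _ _).trans ?_
    refine (congrArg (_ ≫ ·) (pullback.lift_fst _ _ _)).trans ?_
    refine (Category.assoc _ _ _).symm.trans ?_
    refine (congrArg (· ≫ (cY.π.app a.left).left) (hq.lift_fst _ _ _)).trans ?_
    exact hY'.fac (c1 s) a
  · refine (Category.assoc _ _ _).trans ?_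
    refine (congrArg (_ ≫ ·) (pullback.lift_snd _ _ _)).trans ?_
    exact (hq.lift_snd _ _ _).trans (hz s a).symm
  · rw [hq.lift_fst]
    refine hY'.hom_ext fun a => Eq.trans ?_ (hY'.fac (c1 s) a).symm
    show (m ≫ h.left) ≫ (cY.π.app a.left).left = s.π.app a ≫ _
    rw [← hm a, Category.assoc, Category.assoc]
    exact congrArg (m ≫ ·) (left_eq (bcsCone_gam cY f h q hq a))
  · rw [hq.lift_snd, ← hz s a0, ← hm a0, Category.assoc]
    exact congrArg (m ≫ ·) (pullback.lift_snd _ _ _).symm

end Base

section Main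

variable [ProEtS.EpsCont X] (F : EtCoh.Ab X) [Injective F]

theorem cechExact_etale {W Y : X.ProEt} (g : W ⟶ Y) [Etale W.hom] [Etale Y.hom] :
    CechExact g (pe F) :=
  cechExact_eps F (V := Scheme.Etale.mk W.hom) (U := Scheme.Etale.mk Y.hom)
    (MorphismProperty.Over.homMk g.left (MorphismProperty.Over.w g))

theorem cechExact_of_etale {W Y : X.ProEt} (hY : Bas Y) [IsAffine W.left] (g : W ⟶ Y) [Etale g.left] :
    CechExact g (pe F) := by
  haveI := hY.isAffine
  obtain ⟨U, k, hU, hk⟩ := hY
  haveI : IsAffine ((ProEtS.eps X).obj U).left := hU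
  obtain ⟨J, _, _, D, s, t, ht, hst⟩ := hk.ind
  let cY := specCone ((ProEtS.eps X).obj U) s (fun j => (hst j).1) k t (fun j => (hst j).2)
  have hY := isLimitSpecCone ((ProEtS.eps X).obj U) s (fun j => (hst j).1) k t (fun j => (hst j).2) ht
  haveI hUe : Etale ((ProEtS.eps X).obj U).hom := U.prop
  obtain ⟨i, W₀, hW₀, f, q, hf, hq⟩ :=
    exists_descend s (fun j => (hst j).1) k t (fun j => (hst j).2) ht g
  let DY := specSys ((ProEtS.eps X).obj U) s (fun j => (hst j).1)
  haveI hDY : ∀ j, Etale (DY.obj j).hom := fun j => by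
    haveI := etale_specTo ((ProEtS.eps X).obj U) (hst j.unop).1
    exact inferInstanceAs
      (Etale (specTo ((ProEtS.eps X).obj U) (s.app j.unop) ≫ ((ProEtS.eps X).obj U).hom))
  haveI : ∀ a : Over i, IsAffine ((bcSys f).obj a).left := fun a =>
    inferInstanceAs (IsAffine (pullback (DY.map a.hom).left f.left))
  haveI : ∀ a : Over i, IsAffine ((Over.forget i ⋙ DY).obj a).left := fun a =>
    inferInstanceAs (IsAffine (Spec _))
  refine cechExact_of_isLimit F (bcGam f) (cW := bcsCone cY f g q hq) (cY := cY.whisker (Over.forget i))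
    g (bcsCone_gam cY f g q hq) (isLimitBcsCone cY f g q hq hY)
    ((Functor.Initial.isLimitWhiskerEquiv (Over.forget i) _).symm hY) fun a => ?_
  haveI : Etale ((Over.forget i ⋙ DY).obj a).hom := hDY a.left
  haveI : Etale (pullback.fst (DY.map a.hom).left f.left) := MorphismProperty.pullback_fst _ _ hf
  haveI : Etale ((bcSys f).obj a).hom :=
    inferInstanceAs (Etale (pullback.fst (DY.map a.hom).left f.left ≫ (DY.obj a.left).hom))
  exact cechExact_etale F _

/-- The pull-back of an injective sheaf is Čech acyclic on the basis. -/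
theorem cechExact_pe {W Y : X.ProEt} {g : W ⟶ Y} (hY : Bas Y) (hg : IndEtMap g) :
    CechExact g (pe F) := by
  haveI := hg.affine₁
  haveI := hg.affine₂
  obtain ⟨J, _, _, D, s, t, ht, hst⟩ := hg.ind
  haveI : ∀ j : Jᵒᵖ, IsAffine (((Functor.const Jᵒᵖ).obj Y).obj j).left := fun _ => hg.affine₂
  haveI : IsConnected Jᵒᵖ := IsCofiltered.isConnected Jᵒᵖ
  refine cechExact_of_isLimit F (specGam Y s fun j => (hst j).1)
    (cW := specCone Y s (fun j => (hst j).1) g t fun j => (hst j).2)
    (cY := Cone.mk Y (𝟙 ((Functor.const Jᵒᵖ).obj Y))) g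
    (fun j => (Category.comp_id _).trans (specCone_gam Y s _ g t _ j).symm)
    (isLimitSpecCone Y s _ g t _ ht) ?_ fun j => ?_
  · exact IsLimit.ofIsoLimit (isLimitConstCone Jᵒᵖ Y.left) (Cone.ext (Iso.refl _) fun j => by
      show 𝟙 Y.left = 𝟙 _ ≫ 𝟙 Y.left
      exact (Category.comp_id _).symm)
  · haveI := etale_specGam Y s (fun j => (hst j).1) j
    haveI : ∀ k : Jᵒᵖ, IsAffine ((specSys Y s fun j => (hst j).1).obj k).left := fun k => inferInstance
    exact cechExact_of_etale F hY _

end Main

end Groth.Agent.ProEtEps19
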