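import Groth.Agent.Lib.ProEtEps19.LimEt
import Groth.Agent.Lib.WLocal.IndEtaleCover
import Groth.Agent.Lib.ProEtWC.Cover

/-! Every object of the pro-étale site is covered by weakly contractible objects of the basis. -/

universe u

open CategoryTheory Limits AlgebraicGeometry Opposite TopologicalSpace

namespace Groth.Agent.ProEtEps19

set_option backward.isDefEq.respectTransparency false
set_option backward.isDefEq.respectTransparency.types false
set_option linter.style.haveILetI false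
set_option maxHeartbeats 800000

open Groth.Agent.ProEtWC

variable {X : Scheme.{u}}

theorem indEt_appTop_of_spec {Y : Scheme.{u}} [IsAffine Y] {D : Type u} [CommRing D]
    [Algebra Γ(Y, ⊤) D] (hD : EtPBC.IsIndEtale Γ(Y, ⊤) D) :
    indEt (Spec.map (CommRingCat.ofHom (algebraMap Γ(Y, ⊤) D)) ≫ Y.isoSpec.inv).appTop := by
  refine (MorphismProperty.arrow_mk_iso_iff indEt ?_).2 ((WLocal.isIndEtale_iff _ _).1 hD)
  exact Arrow.isoMk (Iso.refl _) (Scheme.ΓSpecIso (CommRingCat.of D)) (by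
    have h0 : (Y.isoSpec.inv).appTop ≫ (Scheme.ΓSpecIso Γ(Y, ⊤)).hom = 𝟙 _ := by
      rw [← Scheme.toSpecΓ_appTop, ← Scheme.Hom.comp_appTop, Scheme.toSpecΓ_isoSpec_inv, Scheme.Hom.id_appTop]
    simp
    exact ((Category.assoc _ _ _).symm.trans ((congrArg (· ≫ _) h0).trans (Category.id_comp _))).symm)

theorem exists_bas_over (W : X.ProEt) [IsAffine W.left] {U : X.Opens} (hU : IsAffineOpen U)
    (hW : Set.range W.hom ⊆ (U : Set X)) :
    ∃ (V : X.ProEt) (g : V ⟶ W),
      IsAffine V.left ∧ Surjective g.left ∧ Bas V ∧ ProEtS.IsWC V := by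
  haveI : IsAffine U.toScheme := hU
  let p : W.left ⟶ U.toScheme := IsOpenImmersion.lift U.ι W.hom (by rwa [Scheme.Opens.range_ι])
  have hp : p ≫ U.ι = W.hom := IsOpenImmersion.lift_fac _ _ _
  haveI : WeaklyEtale W.hom := W.prop
  haveI : WeaklyEtale (p ≫ U.ι) := by rw [hp]; infer_instance
  haveI : WeaklyEtale p := WeaklyEtale.of_comp p U.ι
  letI : Algebra Γ(U.toScheme, ⊤) Γ(W.left, ⊤) := p.appTop.hom.toAlgebra
  haveI : WeaklyEtale (Spec.map (CommRingCat.ofHom (algebraMap Γ(U.toScheme, ⊤) Γ(W.left, ⊤)))) := by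
    have e : Spec.map (CommRingCat.ofHom (algebraMap Γ(U.toScheme, ⊤) Γ(W.left, ⊤))) =
        W.left.isoSpec.inv ≫ p ≫ U.toScheme.isoSpec.hom := by
      rw [← Category.assoc, ← Scheme.isoSpec_inv_naturality, Category.assoc, Iso.inv_hom_id,
        Category.comp_id]
      rfl
    rw [e]; infer_instance
  haveI : Algebra.WeaklyEtale Γ(U.toScheme, ⊤) Γ(W.left, ⊤) := WEtSch4.weaklyEtale_SpecMap_iff.1 ‹_›
  obtain ⟨B', _, _, _, _, hff, hB, hA⟩ :=
    WLocal.exists_indEtale_cover_of_weaklyEtale (A := Γ(U.toScheme, ⊤)) (B := Γ(W.left, ⊤))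
  haveI := hff
  let f := Spec.map (CommRingCat.ofHom (algebraMap Γ(W.left, ⊤) B'))
  haveI : WeaklyEtale f := WEtSch4.weaklyEtale_SpecMap_iff.2 (WEtaleH7.weaklyEtale_of_isIndEtale hB)
  haveI : Surjective f := ⟨PrimeSpectrum.comap_surjective_of_faithfullyFlat⟩
  let w : Spec (CommRingCat.of B') ⟶ W.left := f ≫ W.left.isoSpec.inv
  haveI : WeaklyEtale w := inferInstanceAs (WeaklyEtale (f ≫ W.left.isoSpec.inv))
  haveI : Surjective w := inferInstanceAs (Surjective (f ≫ W.left.isoSpec.inv))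
  let UE : X.Etale := Scheme.Etale.mk U.ι
  have hV : Bas (overObj W w) := by
    refine ⟨UE, MorphismProperty.Over.homMk (w ≫ p) ?_, hU,
      ⟨inferInstanceAs (IsAffine (Spec (CommRingCat.of B'))), hU, ?_⟩⟩
    · show (w ≫ p) ≫ U.ι = w ≫ W.hom
      rw [Category.assoc, hp]
    · show indEt (w ≫ p).appTop
      have e : w ≫ p = Spec.map (CommRingCat.ofHom (algebraMap Γ(U.toScheme, ⊤) B')) ≫
          U.toScheme.isoSpec.inv := by
        simp only [w, f, Category.assoc]
        rw [← Scheme.isoSpec_inv_naturality p, ← Category.assoc, ← Spec.map_comp]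
        congr 2
        ext x
        exact (IsScalarTower.algebraMap_apply Γ(U.toScheme, ⊤) Γ(W.left, ⊤) B' x).symm
      rw [e]
      exact indEt_appTop_of_spec hA
  obtain ⟨V, g, hg, hgs, hwc⟩ := exists_wc_cover hV
  haveI : Surjective (overHom W w).left := ‹Surjective w›
  exact ⟨V, g ≫ overHom W w, hg.affine₁,
    inferInstanceAs (Surjective (g.left ≫ (overHom W w).left)), hV.of_indEtMap hg, hwc⟩

/-- Objects of the basis which are weakly contractible cover. -/
theorem exists_bas_cover (W : X.ProEt) :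
    ∃ (ι : Type u) (V : ι → X.ProEt) (g : ∀ i, V i ⟶ W),
      Sieve.generate (Presieve.ofArrows V g) ∈ Scheme.ProEt.topology X W ∧
        ∀ i, Bas (V i) ∧ ProEtS.IsWC (V i) := by
  let ι := {O : W.left.affineOpens // ∃ U : X.Opens, IsAffineOpen U ∧ O.1 ≤ W.hom ⁻¹ᵁ U}
  let O : ι → W.left.Opens := fun i => i.1.1
  have hO : iSup O = ⊤ := by
    refine top_unique fun x _ => ?_
    obtain ⟨U, hU, hxU, -⟩ := exists_isAffineOpen_mem_and_subset (X := X) (x := W.hom x) (U := ⊤) trivial
    obtain ⟨P, hP, hxP, hPU⟩ := exists_isAffineOpen_mem_and_subset (X := W.left) (x := x)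
      (U := W.hom ⁻¹ᵁ U) hxU
    exact Opens.mem_iSup.2 ⟨⟨⟨P, hP⟩, U, hU, hPU⟩, hxP⟩
  choose V v hVa hs hb hwc using fun i : ι =>
    haveI : IsAffine (O i).toScheme := i.1.2
    haveI : IsAffine (overObj W (O i).ι).left := i.1.2
    exists_bas_over (overObj W (O i).ι) i.2.choose_spec.1 (by
      rintro _ ⟨z, rfl⟩
      exact i.2.choose_spec.2 z.2)
  refine ⟨ι, V, fun i => v i ≫ overHom W (O i).ι, ?_, fun i => ⟨hb i, hwc i⟩⟩
  refine GrothendieckTopology.transitive _ (opens_cover_mem W O hO) _ ?_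
  rintro Y f ⟨Z, a, b, ⟨i⟩, rfl⟩
  rw [Sieve.pullback_comp]
  refine GrothendieckTopology.pullback_stable _ a ?_
  haveI := hs i
  haveI := hVa i
  haveI : IsAffine (overObj W (O i).ι).left := i.1.2
  refine GrothendieckTopology.superset_covering _ ?_ (singleton_affine_mem (v i))
  rw [Sieve.generate_le_iff]
  rintro Y f ⟨⟩
  exact ⟨V i, 𝟙 _, v i ≫ overHom W (O i).ι, Presieve.ofArrows.mk i, Category.id_comp _⟩

/-- A map which is bijective on the basis is an isomorphism. -/
theorem isIso_of_bijective_bas [ProEtS.EpsCont X] {G H : ProEtS.AbP X} (φ : G ⟶ H)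
    (h : ∀ V : X.ProEt, Bas V → Function.Bijective (φ.hom.app (op V))) : IsIso φ := by
  have hinj : ∀ Z : X.ProEt, Function.Injective (φ.hom.app (op Z)) := fun Z x y e => by
    obtain ⟨ι, V, g, hg, hV⟩ := exists_bas_cover Z
    refine eq_of_cover hg G x y fun W q hq => ?_
    obtain ⟨W', q', g', hg', rfl⟩ := hq
    obtain ⟨i⟩ := hg'
    rw [op_comp, Functor.map_comp_apply, Functor.map_comp_apply]
    refine congrArg (G.obj.map q'.op) ((h (V i) (hV i).1).1 ?_)
    rw [NatTrans.naturality_apply, NatTrans.naturality_apply, e]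
  have hsurj : ∀ Z : X.ProEt, Function.Surjective (φ.hom.app (op Z)) := fun Z s => by
    obtain ⟨ι, V, g, hg, hV⟩ := exists_bas_cover Z
    choose t ht using fun i => (h (V i) (hV i).1).2 (H.obj.map (g i).op s)
    have hc : Presieve.Arrows.Compatible (G.obj ⋙ forget AddCommGrpCat.{u + 1}) g t := by
      intro i j W gi gj hij
      refine hinj W ?_
      show φ.hom.app (op W) (G.obj.map gi.op (t i)) = φ.hom.app (op W) (G.obj.map gj.op (t j))
      rw [NatTrans.naturality_apply, NatTrans.naturality_apply, ht, ht, ← Functor.map_comp_apply,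
        ← Functor.map_comp_apply, ← op_comp, ← op_comp, hij]
    have hsh := ((isSheaf_iff_isSheaf_of_type _ _).1
      ((Presheaf.isSheaf_iff_isSheaf_forget _ G.obj (forget AddCommGrpCat.{u + 1})).1 G.property)) _ hg
    rw [← Presieve.isSheafFor_iff_generate] at hsh
    obtain ⟨y, hy, -⟩ := (Presieve.isSheafFor_arrows_iff _ _).1 hsh t hc
    refine ⟨y, eq_of_cover hg H _ _ fun W q hq => ?_⟩
    obtain ⟨W', q', g', hg', rfl⟩ := hq
    obtain ⟨i⟩ := hg'
    rw [op_comp, Functor.map_comp_apply, Functor.map_comp_apply]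
    refine congrArg (H.obj.map q'.op) ?_
    rw [← NatTrans.naturality_apply, show G.obj.map (g i).op y = t i from hy i, ht]
  haveI : ∀ Z, IsIso (φ.hom.app Z) := fun Z =>
    (ConcreteCategory.isIso_iff_bijective _).2 ⟨hinj Z.unop, hsurj Z.unop⟩
  haveI : IsIso φ.hom := NatIso.isIso_of_isIso_app _
  exact (isIso_iff_of_reflects_iso _ (sheafToPresheaf (Scheme.ProEt.topology X) AddCommGrpCat.{u + 1})).1
    (inferInstanceAs (IsIso φ.hom))

end Groth.Agent.ProEtEps19
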