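import Groth.Agent.Lib.ProEtEps19.Descend
import Mathlib.Algebra.Category.Grp.FilteredColimits
import Mathlib.CategoryTheory.Limits.Types.Filtered

/-! Sections of the pull-back over a limit are the colimit of the sections. -/

universe u

open CategoryTheory Limits AlgebraicGeometry Opposite TopologicalSpace

namespace Groth.Agent.ProEtEps19

set_option backward.isDefEq.respectTransparency false
set_option backward.isDefEq.respectTransparency.types false
set_option linter.style.haveILetI false
set_option maxHeartbeats 800000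

variable {X : Scheme.{u}} [ProEtS.EpsCont X] (F : EtCoh.Ab X)
  {I : Type u} [SmallCategory I] [IsCofiltered I] {D : I ⥤ X.ProEt}
  [∀ (i j : I) (a : i ⟶ j), IsAffineHom (D.map a).left]
  [∀ i, CompactSpace (D.obj i).left] [∀ i, QuasiSeparatedSpace (D.obj i).left]
  {c : Cone D} (hc : IsLimit ((Scheme.ProEt.forget X ⋙ Over.forget X).mapCone c))

include hc in
theorem exists_stage_eq {i : I} (s t : (pe F).obj (op (D.obj i)))
    (h : (pe F).map (c.π.app i).op s = (pe F).map (c.π.app i).op t) :
    ∃ (j : I) (f : j ⟶ i), (pe F).map (D.map f).op s = (pe F).map (D.map f).op t := by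
  obtain ⟨j, f, hf⟩ := exists_stage_zero F hc (𝟙 (D.obj i)) (s - t) fun W a b hab => by
    rw [Category.comp_id] at hab
    subst hab
    rw [map_sub, sub_eq_zero, op_comp, Functor.map_comp_apply, Functor.map_comp_apply]
    exact congrArg _ h
  refine ⟨j, f, sub_eq_zero.1 ?_⟩
  rw [← map_sub]
  exact hf _ (D.map f) (𝟙 _) (by rw [Category.comp_id, Category.id_comp])

include hc in
theorem nonempty_isColimit : Nonempty (IsColimit ((pe F).mapCocone c.op)) := by
  haveI : IsFiltered (AsSmall.{u + 1} Iᵒᵖ) := IsFiltered.of_equivalence AsSmall.equiv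
  haveI : PreservesColimitsOfShape Iᵒᵖ (forget AddCommGrpCat.{u + 1}) :=
    preservesColimitsOfShape_of_equiv (AsSmall.equiv : Iᵒᵖ ≌ AsSmall.{u + 1} Iᵒᵖ).symm _
  haveI : HasColimitsOfShape Iᵒᵖ AddCommGrpCat.{u + 1} :=
    hasColimitsOfShape_of_equivalence (AsSmall.equiv : Iᵒᵖ ≌ AsSmall.{u + 1} Iᵒᵖ).symm
  haveI : ReflectsColimit (D.op ⋙ pe F) (forget AddCommGrpCat.{u + 1}) :=
    reflectsColimit_of_reflectsIsomorphisms _ _
  refine ⟨isColimitOfReflects (forget AddCommGrpCat.{u + 1})
    (Types.FilteredColimit.isColimitOf' _ _ (fun x => ?_) fun i a b h => ?_)⟩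
  · obtain ⟨j, s, hs⟩ := exists_stage_section (F := F) (σ := x) hc
    exact ⟨op j, s, hs.symm⟩
  · obtain ⟨j, f, hf⟩ := exists_stage_eq F hc a b h
    exact ⟨op j, f.op, hf⟩

end Groth.Agent.ProEtEps19
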