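import Groth.Agent.Lib.ProEtEps19.Flasque
import Groth.Agent.Lib.ProEtEps19.Colim

/-! Comparison of higher direct images on the étale and pro-étale sites. -/

universe u

open CategoryTheory Limits AlgebraicGeometry Opposite TopologicalSpace

namespace Groth.Agent.ProEtEps19

set_option backward.isDefEq.respectTransparency false
set_option backward.isDefEq.respectTransparency.types false
set_option linter.style.haveILetI false
set_option linter.unusedSectionVars false
set_option maxHeartbeats 800000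

open Groth.Agent.ProEtWC

theorem exists_presentation {Y : Scheme.{u}} {V : Y.ProEt} (hV : Bas V) :
    ∃ (I : Type u) (_ : SmallCategory I) (_ : IsCofiltered I) (D : I ⥤ Y.ProEt)
      (π : (Functor.const I).obj V ⟶ D),
      (∀ i, IsAffine (D.obj i).left ∧ Etale (D.obj i).hom) ∧
        Nonempty (IsLimit ((toSch Y).mapCone (Cone.mk V π))) := by
  obtain ⟨U, k, hU, hk⟩ := hV
  haveI := hk.affine₁
  haveI : IsAffine ((ProEtS.eps Y).obj U).left := hU
  obtain ⟨J, _, _, D, s, t, ht, hst⟩ := hk.ind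
  haveI hUe : Etale ((ProEtS.eps Y).obj U).hom := U.prop
  refine ⟨Jᵒᵖ, inferInstance, inferInstance, specSys ((ProEtS.eps Y).obj U) s (fun j => (hst j).1),
    (specCone ((ProEtS.eps Y).obj U) s (fun j => (hst j).1) k t (fun j => (hst j).2)).π,
    fun j => ⟨inferInstance, ?_⟩,
    ⟨isLimitSpecCone ((ProEtS.eps Y).obj U) s (fun j => (hst j).1) k t (fun j => (hst j).2) ht⟩⟩
  haveI := etale_specTo ((ProEtS.eps Y).obj U) (hst j.unop).1
  exact inferInstanceAs
    (Etale (specTo ((ProEtS.eps Y).obj U) (s.app j.unop) ≫ ((ProEtS.eps Y).obj U).hom))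

variable {X Y : Scheme.{u}} (f : X ⟶ Y)

theorem isPullback_bcP_map {U V : Y.ProEt} (g : V ⟶ U) :
    IsPullback ((ProEtS.bcP f).map g).left (pullback.fst V.hom f : ((ProEtS.bcP f).obj V).left ⟶ V.left)
      (pullback.fst U.hom f : ((ProEtS.bcP f).obj U).left ⟶ U.left) g.left := by
  have e1 : ((ProEtS.bcP f).map g).left ≫ pullback.snd U.hom f = pullback.snd V.hom f :=
    pullback.lift_snd _ _ _
  have e2 : g.left ≫ U.hom = V.hom := MorphismProperty.Over.w g
  refine IsPullback.of_right (h₁₂ := pullback.snd U.hom f) (v₁₃ := f) (h₂₂ := U.hom) ?_ ?_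
    (IsPullback.of_hasPullback U.hom f).flip
  · exact (congrArg₂ (fun a d => IsPullback a (pullback.fst V.hom f) f d) e1 e2).mpr
      (IsPullback.of_hasPullback V.hom f).flip
  · exact pullback.lift_fst _ _ _

section Sys

variable {I : Type u} [SmallCategory I] [IsCofiltered I] {D : I ⥤ Y.ProEt}
  [∀ i, IsAffine (D.obj i).left]

instance isAffineHom_bcP (i j : I) (a : i ⟶ j) :
    IsAffineHom ((D ⋙ ProEtS.bcP f).map a).left :=
  MorphismProperty.of_isPullback (P := @IsAffineHom) (isPullback_bcP_map f (D.map a)).flip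
    (inferInstance : IsAffineHom (D.map a).left)

instance compact_bcP [QuasiCompact f] (i : I) : CompactSpace ((D ⋙ ProEtS.bcP f).obj i).left :=
  haveI : CompactSpace ↥((𝟭 Scheme).obj (D.obj i).left) := inferInstanceAs (CompactSpace (D.obj i).left)
  QuasiCompact.compactSpace_of_compactSpace (pullback.fst (D.obj i).hom f)

instance quasiSeparated_bcP [QuasiSeparated f] (i : I) :
    QuasiSeparatedSpace ((D ⋙ ProEtS.bcP f).obj i).left :=
  haveI : QuasiSeparatedSpace ↥((𝟭 Scheme).obj (D.obj i).left) :=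
    inferInstanceAs (QuasiSeparatedSpace (D.obj i).left)
  quasiSeparatedSpace_of_quasiSeparated (pullback.fst (D.obj i).hom f)

theorem etale_bcP (hD : ∀ i, Etale (D.obj i).hom) (i : I) : Etale ((D ⋙ ProEtS.bcP f).obj i).hom :=
  MorphismProperty.pullback_snd _ _ (hD i)

/-- Base change of a limit is a limit. -/
noncomputable def isLimitBcP {c : Cone D} (hc : IsLimit ((toSch Y).mapCone c)) :
    IsLimit ((toSch X).mapCone ((ProEtS.bcP f).mapCone c)) := by
  let c1 : ∀ s : Cone ((D ⋙ ProEtS.bcP f) ⋙ toSch X), Cone (D ⋙ toSch Y) := fun s =>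
    { pt := s.pt
      π :=
        { app := fun i => s.π.app i ≫ pullback.fst (D.obj i).hom f
          naturality := fun i j a => by
            show 𝟙 _ ≫ s.π.app j ≫ _ = (s.π.app i ≫ _) ≫ (D.map a).left
            rw [Category.id_comp, ← s.w a, Category.assoc, Category.assoc]
            exact congrArg (s.π.app i ≫ ·) (pullback.lift_fst _ _ _) } }
  let j0 : I := (IsCofiltered.nonempty (C := I)).some
  let z : ∀ s : Cone ((D ⋙ ProEtS.bcP f) ⋙ toSch X), s.pt ⟶ X := fun s =>
    s.π.app j0 ≫ pullback.snd (D.obj j0).hom f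
  have hz : ∀ (s : Cone ((D ⋙ ProEtS.bcP f) ⋙ toSch X)) (i : I),
      s.π.app i ≫ pullback.snd (D.obj i).hom f = z s := fun s i => by
    show _ = s.π.app j0 ≫ _
    rw [← s.w (IsCofiltered.minToLeft i j0), ← s.w (IsCofiltered.minToRight i j0), Category.assoc,
      Category.assoc]
    exact congrArg (s.π.app _ ≫ ·) ((pullback.lift_snd _ _ _).trans (pullback.lift_snd _ _ _).symm)
  have hw : ∀ s : Cone ((D ⋙ ProEtS.bcP f) ⋙ toSch X), hc.lift (c1 s) ≫ c.pt.hom = z s ≫ f := fun s => by
    refine (congrArg (hc.lift (c1 s) ≫ ·) (MorphismProperty.Over.w (c.π.app j0)).symm).trans ?_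
    refine ((Category.assoc _ _ _).symm.trans (congrArg (· ≫ (D.obj j0).hom) (hc.fac (c1 s) j0))).trans ?_
    show (s.π.app j0 ≫ pullback.fst _ _) ≫ _ = (s.π.app j0 ≫ pullback.snd _ _) ≫ f
    exact (Category.assoc _ _ _).trans
      ((congrArg (s.π.app j0 ≫ ·) pullback.condition).trans (Category.assoc _ _ _).symm)
  refine ⟨fun s => pullback.lift (hc.lift (c1 s)) (z s) (hw s), fun s i => pullback.hom_ext ?_ ?_,
    fun s m hm => pullback.hom_ext ?_ ?_⟩
  · refine (Category.assoc _ _ _).trans ?_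
    refine (congrArg (_ ≫ ·) (pullback.lift_fst _ _ _)).trans ?_
    refine (Category.assoc _ _ _).symm.trans ?_
    refine (congrArg (· ≫ (c.π.app i).left) (pullback.lift_fst _ _ _)).trans ?_
    exact hc.fac (c1 s) i
  · refine (Category.assoc _ _ _).trans ?_
    refine (congrArg (_ ≫ ·) (pullback.lift_snd _ _ _)).trans ?_
    exact (pullback.lift_snd _ _ _).trans (hz s i).symm
  · rw [pullback.lift_fst]
    refine hc.hom_ext fun i => Eq.trans ?_ (hc.fac (c1 s) i).symm
    show (m ≫ pullback.fst _ _) ≫ (c.π.app i).left = s.π.app i ≫ pullback.fst _ _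
    rw [← hm i, Category.assoc, Category.assoc]
    exact congrArg (m ≫ ·) (pullback.lift_fst _ _ _).symm
  · rw [pullback.lift_snd, ← hz s j0, ← hm j0, Category.assoc]
    exact congrArg (m ≫ ·) (pullback.lift_snd _ _ _).symm

end Sys

theorem limEt_bcP [QuasiCompact f] [QuasiSeparated f] {V : Y.ProEt} (hV : Bas V) :
    LimEt ((ProEtS.bcP f).obj V) := by
  obtain ⟨I, _, _, D, π, hD, ⟨hc⟩⟩ := exists_presentation hV
  haveI : ∀ i, IsAffine (D.obj i).left := fun i => (hD i).1
  exact LimEt.mk (D ⋙ ProEtS.bcP f) (etale_bcP f fun i => (hD i).2)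
    ((ProEtS.bcP f).mapCone (Cone.mk V π)) (isLimitBcP f hc)

variable [ProEtS.EpsCont X] [ProEtS.EpsCont Y] [ProEtS.PCont f]

/-- The identification `f_* ε_* = ε_* f_*`. -/
noncomputable def pushEps : ProEtS.epsPush X ⋙ EtCoh.push f ⟶ ProEtS.pushP f ⋙ ProEtS.epsPush Y where
  app G := ⟨{ app := fun V => 𝟙 (G.obj.obj (op ((ProEtS.bcP f).obj ((ProEtS.eps Y).obj V.unop))))
              naturality := fun V W a => (Category.comp_id _).trans (Category.id_comp _).symm }⟩
  naturality G H φ := by
    ext V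
    rfl

/-- The comparison map `ε⁻¹ f_* ⟶ f_* ε⁻¹`. -/
noncomputable def theta : EtCoh.push f ⋙ ProEtS.epsPull Y ⟶ ProEtS.epsPull X ⋙ ProEtS.pushP f where
  app F := ((ProEtS.epsAdj Y).homEquiv _ _).symm
    ((EtCoh.push f).map ((ProEtS.epsAdj X).unit.app F) ≫ (pushEps f).app _)
  naturality F G φ := by
    show (ProEtS.epsPull Y).map ((EtCoh.push f).map φ) ≫ _ =
      _ ≫ (ProEtS.pushP f).map ((ProEtS.epsPull X).map φ)
    refine ((ProEtS.epsAdj Y).homEquiv_naturality_left_symm _ _).symm.trans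
      (Eq.trans ?_ ((ProEtS.epsAdj Y).homEquiv_naturality_right_symm _ _))
    refine congrArg _ ?_
    rw [Category.assoc, ← Category.assoc ((EtCoh.push f).map φ), ← Functor.map_comp]
    have h1 := (ProEtS.epsAdj X).unit.naturality φ
    simp only [Functor.id_map, Functor.comp_map] at h1
    rw [h1, Functor.map_comp, Category.assoc]
    exact congrArg (_ ≫ ·) ((pushEps f).naturality ((ProEtS.epsPull X).map φ))

variable (F : EtCoh.Ab X)

theorem theta_un (U : Y.Etale) (t : ((EtCoh.push f).obj F).obj.obj (op U)) :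
    ((theta f).app F).hom.app (op ((ProEtS.eps Y).obj U)) (un ((EtCoh.push f).obj F) U t) =
      un F ((EtCoh.bc f).obj U) t := by
  have h : (ProEtS.epsAdj Y).unit.app ((EtCoh.push f).obj F) ≫ (ProEtS.epsPush Y).map ((theta f).app F) =
      (EtCoh.push f).map ((ProEtS.epsAdj X).unit.app F) ≫ (pushEps f).app _ :=
    ((ProEtS.epsAdj Y).homEquiv_unit _ _ _).symm.trans (((ProEtS.epsAdj Y).homEquiv _ _).apply_symm_apply _)
  exact congr($(h).hom.app (op U) t)

theorem theta_rep {V : Y.ProEt} {U : Y.Etale} (a : V ⟶ (ProEtS.eps Y).obj U)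
    (t : ((EtCoh.push f).obj F).obj.obj (op U)) :
    ((theta f).app F).hom.app (op V) (rep ((EtCoh.push f).obj F) a t) =
      (pe F).map ((ProEtS.bcP f).map a).op (un F ((EtCoh.bc f).obj U) t) := by
  rw [← theta_un]
  exact NatTrans.naturality_apply ((theta f).app F).hom a.op _

theorem isIso_theta [QuasiCompact f] [QuasiSeparated f] : IsIso ((theta f).app F) := by
  refine isIso_of_bijective_bas _ fun V hV => ?_
  obtain ⟨I, _, _, D, π, hD, ⟨hc⟩⟩ := exists_presentation hV
  haveI : ∀ i, IsAffine (D.obj i).left := fun i => (hD i).1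
  haveI := fun i => (hD i).2
  haveI : ∀ (i j : I) (a : i ⟶ j), IsAffineHom (D.map a).left := fun i j a => inferInstance
  have hc' := isLimitBcP f hc
  let E : I → Y.Etale := fun i => Scheme.Etale.mk (D.obj i).hom
  refine ⟨(injective_iff_map_eq_zero _).2 fun z hz => ?_, fun σ => ?_⟩
  · obtain ⟨i, e, he⟩ := exists_stage_section (F := (EtCoh.push f).obj F) (σ := z) hc
    obtain ⟨t, rfl⟩ := un_surjective ((EtCoh.push f).obj F) (E i) e
    have h0 : (pe F).map (((ProEtS.bcP f).mapCone (Cone.mk V π)).π.app i).op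
        (un F ((EtCoh.bc f).obj (E i)) t) = 0 := by
      refine ((theta_rep f F (U := E i) (π.app i) t).symm.trans ?_)
      exact (congrArg _ he).trans hz
    obtain ⟨j, a, hj⟩ := exists_stage_eq F hc' (i := i) (un F ((EtCoh.bc f).obj (E i)) t) 0
      (by rw [map_zero]; exact h0)
    rw [map_zero] at hj
    let b : E j ⟶ E i := MorphismProperty.Over.homMk (D.map a).left (MorphismProperty.Over.w (D.map a))
    have ht : F.obj.map ((EtCoh.bc f).map b).op t = 0 := un_injective F _ (by
      rw [map_zero, ← un_map]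
      exact hj)
    rw [← he]
    have hw : π.app j ≫ D.map a = π.app i := (Cone.mk V π).w a
    show (pe ((EtCoh.push f).obj F)).map (π.app i).op _ = 0
    rw [← hw, op_comp, Functor.map_comp_apply]
    refine (congrArg _ ?_).trans (map_zero _)
    refine (un_map ((EtCoh.push f).obj F) b t).trans ?_
    exact (congrArg _ ht).trans (map_zero _)
  · obtain ⟨i, e, he⟩ := exists_stage_section (F := F) (σ := σ) hc'
    obtain ⟨t, rfl⟩ := un_surjective F ((EtCoh.bc f).obj (E i)) e
    exact ⟨rep ((EtCoh.push f).obj F) (V := E i) (π.app i) t, (theta_rep f F (U := E i) _ t).trans he⟩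

variable [QuasiCompact f] [QuasiSeparated f]

theorem epi_map_pushP {S : ShortComplex (ProEtS.AbP X)} (hS : S.ShortExact) (hG : Acyc S.X₁)
    (hF : Fl S.X₁) : Epi ((ProEtS.pushP f).map S.g) := by
  refine (Sheaf.isLocallySurjective_iff_epi' _ _).1 ⟨fun {U} s => ?_⟩
  obtain ⟨ι, V, g, hg, hV⟩ := exists_bas_cover U
  refine GrothendieckTopology.superset_covering _ ?_ hg
  rw [Sieve.generate_le_iff, Presieve.ofArrows_le_iff]
  intro i
  obtain ⟨t, ht⟩ := surjective_limEt hS hG hF (limEt_bcP f (hV i).1)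
    (((ProEtS.pushP f).obj S.X₃).obj.map (g i).op s)
  exact ⟨t, ht⟩

instance preservesFiniteLimits_pushP : PreservesFiniteLimits (ProEtS.pushP f) :=
  haveI := (ProEtS.pullPushAdjP f).isRightAdjoint
  inferInstance

theorem isZero_rpushP : ∀ (q : ℕ) (G : ProEtS.AbP X), Acyc G → Fl G →
    IsZero ((ProEtS.RpushP f (q + 1)).obj G) := by
  intro q
  induction q with
  | zero =>
    intro G hG hF
    obtain ⟨S, hS, rfl, _⟩ := exists_embedding G
    obtain ⟨e⟩ := SheafVan16.nonempty_rightDerived_one_iso_cokernel (ProEtS.pushP f) hS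
      (Functor.isZero_rightDerived_obj_injective_succ _ 0 S.X₂)
    haveI := epi_map_pushP f hS hG hF
    exact (isZero_cokernel_of_epi _).of_iso e
  | succ q ih =>
    intro G hG hF
    obtain ⟨S, hS, rfl, _⟩ := exists_embedding G
    obtain ⟨e⟩ := SheafVan16.nonempty_rightDerived_succ_iso (ProEtS.pushP f) hS q
      (Functor.isZero_rightDerived_obj_injective_succ _ q S.X₂)
      (Functor.isZero_rightDerived_obj_injective_succ _ (q + 1) S.X₂)
    exact (ih _ (acyc_quotient hS hG) (fl_quotient hS hG hF)).of_iso e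

theorem nonempty_rpush_iso : ∀ (q : ℕ) (F : EtCoh.Ab X),
    Nonempty ((ProEtS.RpushP f q).obj ((ProEtS.epsPull X).obj F) ≅
      (ProEtS.epsPull Y).obj ((EtCoh.Rpush f q).obj F)) := by
  haveI : PreservesFiniteLimits (EtCoh.push f) :=
    haveI := (EtCoh.pullPushAdj f).isRightAdjoint
    inferInstance
  intro q
  induction q with
  | zero =>
    intro F
    haveI := isIso_theta f F
    exact ⟨(ProEtS.pushP f).rightDerivedZeroIsoSelf.app _ ≪≫ (asIso ((theta f).app F)).symm ≪≫
      (ProEtS.epsPull Y).mapIso ((EtCoh.push f).rightDerivedZeroIsoSelf.app F).symm⟩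
  | succ q ih =>
    intro F
    let S := ShortComplex.mk _ _ (cokernel.condition (Injective.ι F))
    have hS : S.ShortExact := { exact := ShortComplex.exact_cokernel _ }
    haveI : Injective S.X₂ := inferInstanceAs (Injective (Injective.under F))
    have hz := fun n => isZero_rpushP f n _ (acyc_epsPull S.X₂) (fl_epsPull S.X₂)
    rcases q with - | q
    · haveI := isIso_theta f S.X₂
      haveI := isIso_theta f S.X₃
      obtain ⟨e1⟩ := SheafVan16.nonempty_rightDerived_one_iso_cokernel (ProEtS.pushP f)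
        (hS.map_of_exact (ProEtS.epsPull X)) (hz 0)
      obtain ⟨e2⟩ := SheafVan16.nonempty_rightDerived_one_iso_cokernel (EtCoh.push f) hS
        (Functor.isZero_rightDerived_obj_injective_succ _ 0 S.X₂)
      exact ⟨e1 ≪≫ cokernel.mapIso _ _ (asIso ((theta f).app S.X₂)).symm
          (asIso ((theta f).app S.X₃)).symm (by
            rw [Iso.symm_hom, Iso.symm_hom, asIso_inv, asIso_inv, IsIso.comp_inv_eq, Category.assoc,
              IsIso.eq_inv_comp]
            exact (theta f).naturality S.g |>.symm) ≪≫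
        (PreservesCokernel.iso (ProEtS.epsPull Y) _).symm ≪≫ (ProEtS.epsPull Y).mapIso e2.symm⟩
    · obtain ⟨e1⟩ := SheafVan16.nonempty_rightDerived_succ_iso (ProEtS.pushP f)
        (hS.map_of_exact (ProEtS.epsPull X)) q (hz q) (hz (q + 1))
      obtain ⟨e2⟩ := SheafVan16.nonempty_rightDerived_succ_iso (EtCoh.push f) hS q
        (Functor.isZero_rightDerived_obj_injective_succ _ q S.X₂)
        (Functor.isZero_rightDerived_obj_injective_succ _ (q + 1) S.X₂)
      obtain ⟨e⟩ := ih S.X₃
      exact ⟨e1 ≪≫ e ≪≫ (ProEtS.epsPull Y).mapIso e2.symm⟩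

end Groth.Agent.ProEtEps19
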