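import Groth.Agent.Lib.Cech24.Injective
import Mathlib.Algebra.Category.Grp.Abelian
import Mathlib.Algebra.Category.Grp.Adjunctions
import Mathlib.Algebra.BigOperators.Fin
import Mathlib.CategoryTheory.Abelian.FunctorCategory
import Mathlib.CategoryTheory.Limits.Preserves.Shapes.Kernels

/-! Cochains on tuples of a single morphism. -/

universe w v u

open CategoryTheory CategoryTheory.Limits Opposite

namespace Groth.Agent.ProEtEps19

set_option backward.isDefEq.respectTransparency false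
set_option backward.isDefEq.respectTransparency.types false

variable {C : Type u} [Category.{v} C] {W Y : C} (g : W ⟶ Y) (P : Cᵒᵖ ⥤ AddCommGrpCat.{w})

/-- Tuples in a fibre of `g`. -/
def Tup (n : ℕ) (T : C) : Type v := {x : Fin (n + 1) → (T ⟶ W) // ∀ k, x k ≫ g = x 0 ≫ g}

variable {g}

/-- Restriction of tuples. -/
def Tup.comp {n : ℕ} {T T' : C} (h : T' ⟶ T) (x : Tup g n T) : Tup g n T' :=
  ⟨fun k => h ≫ x.1 k, fun k => by rw [Category.assoc, x.2 k, Category.assoc]⟩

/-- Faces of tuples. -/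
def Tup.face {n : ℕ} {T : C} (i : Fin (n + 2)) (x : Tup g (n + 1) T) : Tup g n T :=
  ⟨x.1 ∘ i.succAbove, fun _ => (x.2 _).trans (x.2 _).symm⟩

theorem Tup.face_comp {n : ℕ} {T T' : C} (h : T' ⟶ T) (i : Fin (n + 2)) (x : Tup g (n + 1) T) :
    (x.comp h).face i = (x.face i).comp h := Subtype.ext rfl

theorem Tup.comp_comp {n : ℕ} {T T' T'' : C} (h : T' ⟶ T) (h' : T'' ⟶ T') (x : Tup g n T) :
    (x.comp h).comp h' = x.comp (h' ≫ h) := Subtype.ext (funext fun _ => (Category.assoc _ _ _).symm)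

theorem Tup.id_comp {n : ℕ} {T : C} (x : Tup g n T) : x.comp (𝟙 T) = x :=
  Subtype.ext (funext fun _ => Category.id_comp _)

variable (g)

/-- Cochains. -/
structure Cochain (n : ℕ) where
  /-- the values -/
  val : ∀ (T : C), Tup g n T → P.obj (op T)
  nat : ∀ {T T' : C} (h : T' ⟶ T) (x : Tup g n T), P.map h.op (val T x) = val T' (x.comp h)

variable {g P}

@[ext]
theorem Cochain.ext {n : ℕ} {c c' : Cochain g P n} (h : ∀ T x, c.val T x = c'.val T x) : c = c' := by
  cases c; cases c'; simp only [Cochain.mk.injEq]; funext T x; exact h T x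

/-- The differential. -/
noncomputable def Cochain.d {n : ℕ} (c : Cochain g P n) : Cochain g P (n + 1) where
  val T x := ∑ i : Fin (n + 2), (-1 : ℤ) ^ (i : ℕ) • c.val T (x.face i)
  nat h x := by
    rw [map_sum]
    exact Finset.sum_congr rfl fun i _ => by rw [map_zsmul, c.nat, Tup.face_comp]

variable (g P)

/-- Cocycles of positive degree are coboundaries. -/
def CechExact : Prop :=
  ∀ (n : ℕ) (c : Cochain g P (n + 1)), (∀ T x, c.d.val T x = 0) →
    ∃ b : Cochain g P n, ∀ T x, b.d.val T x = c.val T x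

variable {g P}

theorem alternating_sum_faces {E : Type*} {A : Type*} [AddCommGroup A] : ∀ {n : ℕ} (f : (Fin n → E) → A)
    (x : Fin (n + 2) → E), ∑ i : Fin (n + 2), (-1 : ℤ) ^ (i : ℕ) •
      (∑ j : Fin (n + 1), (-1 : ℤ) ^ (j : ℕ) • f ((x ∘ i.succAbove) ∘ j.succAbove)) = 0 := by
  intro n
  induction n with
  | zero =>
    intro f x
    have h : f ((x ∘ Fin.succAbove (1 : Fin 2)) ∘ Fin.succAbove (0 : Fin 1)) =
        f ((x ∘ Fin.succAbove (0 : Fin 2)) ∘ Fin.succAbove (0 : Fin 1)) := congrArg f (Subsingleton.elim _ _)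
    rw [Fin.sum_univ_two, Fin.sum_univ_one, Fin.sum_univ_one, h]
    simp
  | succ n ih =>
    intro f x
    have h0 : ∀ i : Fin (n + 2), (x ∘ i.succ.succAbove) ∘ (0 : Fin (n + 2)).succAbove =
        (x ∘ (0 : Fin (n + 3)).succAbove) ∘ i.succAbove := fun i => by
      funext k; simp
    have h1 : ∀ (i : Fin (n + 2)) (j : Fin (n + 1)), (x ∘ i.succ.succAbove) ∘ j.succ.succAbove =
        Fin.cons (x 0) (((x ∘ Fin.succ) ∘ i.succAbove) ∘ j.succAbove) := fun i j => by
      funext k
      refine Fin.cases ?_ (fun k => ?_) k <;> simp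
    have h2 := ih (fun y => f (Fin.cons (x 0) y)) (x ∘ Fin.succ)
    simp only [Fin.sum_univ_succ (n := n + 1 + 1), Fin.val_zero, pow_zero, one_zsmul, Fin.val_succ]
    have hs : ∀ i : Fin (n + 2), (-1 : ℤ) ^ ((i : ℕ) + 1) •
        (∑ j : Fin (n + 1 + 1), (-1 : ℤ) ^ (j : ℕ) • f ((x ∘ i.succ.succAbove) ∘ j.succAbove)) =
        -((-1 : ℤ) ^ (i : ℕ) • f ((x ∘ (0 : Fin (n + 3)).succAbove) ∘ i.succAbove)) +
        (-1 : ℤ) ^ (i : ℕ) • ∑ j : Fin (n + 1), (-1 : ℤ) ^ (j : ℕ) •
          f (Fin.cons (x 0) (((x ∘ Fin.succ) ∘ i.succAbove) ∘ j.succAbove)) := fun i => by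
      rw [Fin.sum_univ_succ, Fin.val_zero, pow_zero, one_zsmul, h0, pow_succ, mul_neg_one, neg_zsmul,
        zsmul_add, neg_add, ← neg_zsmul, ← zsmul_neg, ← Finset.sum_neg_distrib, neg_zsmul]
      congr 2
      refine Finset.sum_congr rfl fun j _ => ?_
      rw [h1, Fin.val_succ, pow_succ, mul_neg_one, neg_zsmul, neg_neg]
    rw [Finset.sum_congr rfl fun i _ => hs i, Finset.sum_add_distrib, h2, add_zero, Finset.sum_neg_distrib,
      add_neg_cancel]

theorem Cochain.d_d {n : ℕ} (c : Cochain g P n) (T : C) (x : Tup g (n + 2) T) : c.d.d.val T x = 0 := by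
  classical
  let f : (Fin (n + 1) → (T ⟶ W)) → P.obj (op T) := fun y =>
    if hy : ∀ k, y k ≫ g = y 0 ≫ g then c.val T ⟨y, hy⟩ else 0
  simp only [Cochain.d]
  refine Eq.trans ?_ (alternating_sum_faces f x.1)
  refine Finset.sum_congr rfl fun i _ => congrArg _ (Finset.sum_congr rfl fun j _ => congrArg _ ?_)
  show c.val T _ = dite (∀ k, (((x.face i).face j).1 k ≫ g = ((x.face i).face j).1 0 ≫ g)) _ _
  rw [dif_pos ((x.face i).face j).2]
  rfl

/-- A representing object for tuples. -/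
structure Pow (g : W ⟶ Y) (n : ℕ) where
  /-- the object -/
  R : C
  /-- the universal tuple -/
  u : Tup g n R
  /-- the classifying map -/
  lift : ∀ {T : C}, Tup g n T → (T ⟶ R)
  fac : ∀ {T : C} (x : Tup g n T), u.comp (lift x) = x
  hom_ext : ∀ {T : C} (a b : T ⟶ R), u.comp a = u.comp b → a = b

/-- The cochain with a given universal value. -/
noncomputable def Pow.cochain {n : ℕ} (p : Pow g n) (e : P.obj (op p.R)) : Cochain g P n where
  val T x := P.map (p.lift x).op e
  nat h x := by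
    rw [← Functor.map_comp_apply, ← op_comp]
    refine congrArg (fun q : _ ⟶ p.R => P.map q.op e) (p.hom_ext _ _ ?_)
    rw [← Tup.comp_comp, p.fac, p.fac]

theorem Pow.cochain_u {n : ℕ} (p : Pow g n) (e : P.obj (op p.R)) : (p.cochain e).val p.R p.u = e := by
  show P.map (p.lift p.u).op e = e
  rw [p.hom_ext (p.lift p.u) (𝟙 _) (by rw [p.fac, Tup.id_comp]), op_id, P.map_id]
  rfl

theorem Pow.eq_cochain {n : ℕ} (p : Pow g n) (c : Cochain g P n) (T : C) (x : Tup g n T) :
    c.val T x = P.map (p.lift x).op (c.val p.R p.u) := by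
  rw [c.nat, p.fac]

variable {P' : Cᵒᵖ ⥤ AddCommGrpCat.{w}}

/-- Push a cochain along a map of presheaves. -/
noncomputable def Cochain.push {n : ℕ} (φ : P ⟶ P') (c : Cochain g P n) : Cochain g P' n where
  val T x := φ.app (op T) (c.val T x)
  nat h x := by rw [← c.nat, NatTrans.naturality_apply]

theorem Cochain.push_d {n : ℕ} (φ : P ⟶ P') (c : Cochain g P n) (T : C) (x : Tup g (n + 1) T) :
    (c.push φ).d.val T x = φ.app (op T) (c.d.val T x) := by
  simp only [Cochain.d, Cochain.push, map_sum, map_zsmul]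

/-- Difference of cochains. -/
noncomputable def Cochain.sub {n : ℕ} (c c' : Cochain g P n) : Cochain g P n where
  val T x := c.val T x - c'.val T x
  nat h x := by rw [map_sub, c.nat, c'.nat]

theorem Cochain.sub_d {n : ℕ} (c c' : Cochain g P n) (T : C) (x : Tup g (n + 1) T) :
    (c.sub c').d.val T x = c.d.val T x - c'.d.val T x := by
  simp only [Cochain.d, Cochain.sub, zsmul_sub, Finset.sum_sub_distrib]

variable {P'' : Cᵒᵖ ⥤ AddCommGrpCat.{w}}

/-- Exactness is inherited by the quotient. -/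
theorem cechExact_quotient (φ : P ⟶ P') (ψ : P' ⟶ P'') (hφψ : φ ≫ ψ = 0) (p : ∀ n, Pow g n)
    (hinj : ∀ n, Function.Injective (φ.app (op (p n).R)))
    (hex : ∀ n (y : P'.obj (op (p n).R)), ψ.app _ y = 0 → ∃ z, φ.app _ z = y)
    (hsurj : ∀ n, Function.Surjective (ψ.app (op (p n).R)))
    (hP : CechExact g P) (hP' : CechExact g P') : CechExact g P'' := by
  intro n c hc
  obtain ⟨e, he⟩ := hsurj (n + 1) (c.val _ (p (n + 1)).u)
  let c' := (p (n + 1)).cochain e
  have hpush : ∀ T x, (c'.push ψ).val T x = c.val T x := fun T x => by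
    rw [(p (n + 1)).eq_cochain c T x, ← he]
    exact NatTrans.naturality_apply ψ ((p (n + 1)).lift x).op e
  have hc' : ∀ T x, ψ.app (op T) (c'.d.val T x) = 0 := fun T x => by
    rw [← Cochain.push_d, show c'.push ψ = c from Cochain.ext hpush]
    exact hc T x
  obtain ⟨z, hz⟩ := hex (n + 2) _ (hc' _ (p (n + 2)).u)
  let a := (p (n + 2)).cochain z
  have ha : ∀ T x, φ.app (op T) (a.val T x) = c'.d.val T x := fun T x => by
    rw [(p (n + 2)).eq_cochain c'.d T x, ← hz]
    exact NatTrans.naturality_apply φ ((p (n + 2)).lift x).op z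
  have hda : ∀ T x, a.d.val T x = 0 := by
    intro T x
    rw [(p (n + 3)).eq_cochain a.d T x]
    suffices a.d.val _ (p (n + 3)).u = 0 by rw [this, map_zero]
    refine hinj (n + 3) ?_
    rw [map_zero, ← Cochain.push_d, show a.push φ = c'.d from Cochain.ext ha]
    exact Cochain.d_d c' _ _
  obtain ⟨b, hb⟩ := hP (n + 1) a hda
  have h0 : ∀ T x, (c'.sub (b.push φ)).d.val T x = 0 := fun T x => by
    rw [Cochain.sub_d, Cochain.push_d, hb, ha, sub_self]
  obtain ⟨b', hb'⟩ := hP' n _ h0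
  refine ⟨b'.push ψ, fun T x => ?_⟩
  rw [Cochain.push_d, hb']
  show ψ.app _ (c'.val T x - φ.app _ (b.val T x)) = _
  rw [map_sub, ← ConcreteCategory.comp_apply (φ.app (op T)), ← NatTrans.comp_app, hφψ]
  simp only [NatTrans.app_zero, AddCommGrpCat.hom_zero, AddMonoidHom.zero_apply, sub_zero]
  exact hpush T x

section Injective

variable (g)

/-- The presheaf of tuples. -/
def tupPsh (n : ℕ) : Cᵒᵖ ⥤ Type (max v w) where
  obj T := ULift.{w} (Tup g n T.unop)
  map {T T'} h := ↾fun x : ULift.{w} (Tup g n T.unop) => (ULift.up.{w} (x.down.comp h.unop) : ULift.{w} (Tup g n T'.unop))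
  map_id T := by
    ext x
    exact Tup.id_comp x.down
  map_comp h h' := by
    ext x
    exact (Tup.comp_comp h.unop h'.unop x.down).symm

/-- The free presheaf on tuples. -/
noncomputable def chains (n : ℕ) : Cᵒᵖ ⥤ AddCommGrpCat.{max v w} := tupPsh.{w} g n ⋙ AddCommGrpCat.free

/-- The boundary. -/
noncomputable def bdry (n : ℕ) : chains.{w} g (n + 1) ⟶ chains.{w} g n where
  app T := AddCommGrpCat.ofHom (FreeAbelianGroup.lift fun x : ULift.{w} (Tup g (n + 1) T.unop) =>
    ∑ i : Fin (n + 2), (-1 : ℤ) ^ (i : ℕ) • FreeAbelianGroup.of (ULift.up.{w} (x.down.face i)))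
  naturality T T' h := by
    refine AddCommGrpCat.hom_ext (FreeAbelianGroup.lift_ext _ _ fun x => ?_)
    change FreeAbelianGroup.lift _ (FreeAbelianGroup.map _ (FreeAbelianGroup.of x)) =
      FreeAbelianGroup.map _ (FreeAbelianGroup.lift _ (FreeAbelianGroup.of x))
    rw [FreeAbelianGroup.map_of_apply, FreeAbelianGroup.lift_apply_of, FreeAbelianGroup.lift_apply_of, map_sum]
    refine Finset.sum_congr rfl fun i _ => ?_
    rw [map_zsmul, FreeAbelianGroup.map_of_apply]
    rfl

theorem bdry_exact (n : ℕ) (T : Cᵒᵖ) (z : (chains.{w} g (n + 1)).obj T) (hz : (bdry.{w} g n).app T z = 0) :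
    ∃ y, (bdry.{w} g (n + 1)).app T y = z := by
  let π : (T.unop ⟶ W) → (T.unop ⟶ Y) := fun a => a ≫ g
  let e : ∀ m, ULift.{w} (Tup g m T.unop) → Cech24.Tup (fun a : ULift.{w} (T.unop ⟶ W) => ULift.up.{w} (π a.down)) m :=
    fun m x => ⟨fun k => ⟨x.down.1 k⟩, fun k => ULift.ext _ _ (x.down.2 k)⟩
  let e' : ∀ m, Cech24.Tup (fun a : ULift.{w} (T.unop ⟶ W) => ULift.up.{w} (π a.down)) m → ULift.{w} (Tup g m T.unop) :=
    fun m x => ⟨⟨fun k => (x.1 k).down, fun k => congrArg ULift.down (x.2 k)⟩⟩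
  have hbd : ∀ m (q : FreeAbelianGroup (ULift.{w} (Tup g (m + 1) T.unop))),
      Cech24.bdry _ m (FreeAbelianGroup.map (e (m + 1)) q) =
        FreeAbelianGroup.map (e m) ((bdry.{w} g m).app T q) := by
    intro m q
    refine DFunLike.congr_fun (FreeAbelianGroup.lift_ext ((Cech24.bdry _ m).comp (FreeAbelianGroup.map (e (m + 1))))
      ((FreeAbelianGroup.map (e m)).comp ((bdry.{w} g m).app T).hom) fun x => ?_) q
    change Cech24.bdry _ m (FreeAbelianGroup.map _ (FreeAbelianGroup.of x)) =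
      FreeAbelianGroup.map (e m) (FreeAbelianGroup.lift _ (FreeAbelianGroup.of x))
    rw [FreeAbelianGroup.map_of_apply, Cech24.bdry_of, FreeAbelianGroup.lift_apply_of, map_sum]
    refine Finset.sum_congr rfl fun i _ => ?_
    rw [map_zsmul, FreeAbelianGroup.map_of_apply]
    rfl
  have hee : ∀ m (q : FreeAbelianGroup (ULift.{w} (Tup g m T.unop))),
      FreeAbelianGroup.map (e' m) (FreeAbelianGroup.map (e m) q) = q := fun m q =>
    DFunLike.congr_fun (FreeAbelianGroup.lift_ext ((FreeAbelianGroup.map (e' m)).comp (FreeAbelianGroup.map (e m)))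
      (AddMonoidHom.id _) fun x => by simp [e, e']) q
  obtain ⟨y, hy⟩ := Cech24.exists_of_bdry_eq_zero _ (FreeAbelianGroup.map (e (n + 1)) z)
    ((hbd n z).trans ((congrArg _ hz).trans (map_zero _)))
  refine ⟨FreeAbelianGroup.map (e' (n + 2)) y, ?_⟩
  have hye : FreeAbelianGroup.map (e (n + 2)) (FreeAbelianGroup.map (e' (n + 2)) y) = y :=
    DFunLike.congr_fun (FreeAbelianGroup.lift_ext
      ((FreeAbelianGroup.map (e (n + 2))).comp (FreeAbelianGroup.map (e' (n + 2))))
      (AddMonoidHom.id _) fun x => congrArg FreeAbelianGroup.of (Subtype.ext rfl)) y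
  refine (hee (n + 1) _).symm.trans ?_
  rw [← hbd, hye, hy, hee]

variable {g}

/-- The morphism given by a cochain. -/
noncomputable def homOf {I : Cᵒᵖ ⥤ AddCommGrpCat.{max v w}} {m : ℕ} (c : Cochain g I m) :
    chains.{w} g m ⟶ I where
  app T := AddCommGrpCat.ofHom (FreeAbelianGroup.lift fun x : ULift.{w} (Tup g m T.unop) => c.val T.unop x.down)
  naturality T T' h := by
    refine AddCommGrpCat.hom_ext (FreeAbelianGroup.lift_ext _ _ fun x => ?_)
    change FreeAbelianGroup.lift _ (FreeAbelianGroup.map _ (FreeAbelianGroup.of x)) =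
      I.map h (FreeAbelianGroup.lift _ (FreeAbelianGroup.of x))
    rw [FreeAbelianGroup.map_of_apply, FreeAbelianGroup.lift_apply_of, FreeAbelianGroup.lift_apply_of]
    exact (c.nat h.unop x.down).symm

theorem homOf_of {I : Cᵒᵖ ⥤ AddCommGrpCat.{max v w}} {m : ℕ} (c : Cochain g I m) (T : C) (x : Tup g m T) :
    (homOf.{w} c).app (op T) (FreeAbelianGroup.of (ULift.up.{w} x)) = c.val T x :=
  FreeAbelianGroup.lift_apply_of _ _

theorem bdry_homOf {I : Cᵒᵖ ⥤ AddCommGrpCat.{max v w}} {m : ℕ} (c : Cochain g I m) :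
    bdry.{w} g m ≫ homOf.{w} c = homOf.{w} c.d := by
  refine NatTrans.ext (funext fun T => AddCommGrpCat.hom_ext (FreeAbelianGroup.lift_ext _ _ fun x => ?_))
  change FreeAbelianGroup.lift _ (FreeAbelianGroup.lift _ (FreeAbelianGroup.of x)) =
    FreeAbelianGroup.lift _ (FreeAbelianGroup.of x)
  rw [FreeAbelianGroup.lift_apply_of, FreeAbelianGroup.lift_apply_of, map_sum]
  refine Finset.sum_congr rfl fun i _ => ?_
  rw [map_zsmul, FreeAbelianGroup.lift_apply_of]

theorem kernel_homOf {I : Cᵒᵖ ⥤ AddCommGrpCat.{max v w}} {n : ℕ} (c : Cochain g I (n + 1))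
    (hc : ∀ T x, c.d.val T x = 0) : kernel.ι (bdry.{w} g n) ≫ homOf.{w} c = 0 := by
  refine NatTrans.ext (funext fun T => ConcreteCategory.hom_ext _ _ fun z => ?_)
  obtain ⟨y, hy⟩ := bdry_exact g n T ((kernel.ι (bdry.{w} g n)).app T z)
    (ConcreteCategory.congr_hom (congrArg (fun t => NatTrans.app t T) (kernel.condition (bdry.{w} g n))) z)
  change (homOf.{w} c).app T ((kernel.ι (bdry.{w} g n)).app T z) = _
  rw [← hy]
  refine (ConcreteCategory.congr_hom (congrArg (fun t => NatTrans.app t T) (bdry_homOf c)) y).trans ?_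
  have h0 : (homOf.{w} c.d).app T = 0 := AddCommGrpCat.hom_ext (FreeAbelianGroup.lift_ext _ _ fun x =>
    (FreeAbelianGroup.lift_apply_of _ _).trans (hc _ _))
  rw [h0]
  rfl

theorem exists_factor {A : Type*} [Category A] [Abelian A] {K L I : A} [Injective I] (b : K ⟶ L) (h : K ⟶ I)
    (hk : kernel.ι b ≫ h = 0) : ∃ φ : L ⟶ I, b ≫ φ = h :=
  ⟨Injective.factorThru (cokernel.desc (kernel.ι b) h hk) (Abelian.factorThruCoimage b),
    (congrArg (· ≫ _) (Abelian.coimage.fac b).symm).trans ((Category.assoc _ _ _).trans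
      ((congrArg (_ ≫ ·) (Injective.comp_factorThru _ _)).trans (cokernel.π_desc _ _ hk)))⟩

theorem cechExact_injective {I : Cᵒᵖ ⥤ AddCommGrpCat.{max v w}} [Injective I] : CechExact g I := by
  intro n c hc
  obtain ⟨φ, hφ⟩ := exists_factor (bdry.{w} g n) (homOf.{w} c) (kernel_homOf c hc)
  let b : Cochain g I n :=
    { val := fun T x => φ.app (op T) (FreeAbelianGroup.of (ULift.up.{w} x))
      nat := fun {T T'} h x => by
        refine (NatTrans.naturality_apply φ h.op _).symm.trans (congrArg (φ.app (op T')) ?_)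
        exact FreeAbelianGroup.map_of_apply _ }
  have hb : homOf.{w} b = φ := NatTrans.ext (funext fun T => AddCommGrpCat.hom_ext
    (FreeAbelianGroup.lift_ext _ _ fun x => FreeAbelianGroup.lift_apply_of _ _))
  rw [← hb, bdry_homOf] at hφ
  refine ⟨b, fun T x => ?_⟩
  rw [← homOf_of b.d T x, ← homOf_of c T x, hφ]

end Injective

end Groth.Agent.ProEtEps19
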