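import Groth.Agent.Lib.ProEtEps19.Present
import Groth.Agent.Lib.SheafVan16.ProperBC
import Groth.Agent.Lib.ProEtWC.LanExact
import Mathlib.Algebra.Homology.DerivedCategory.Ext.MapBijective
import Mathlib.CategoryTheory.Sites.Abelian

/-! The pull-back of an injective étale sheaf is acyclic on the pro-étale site. -/

universe u

open CategoryTheory Limits AlgebraicGeometry Opposite TopologicalSpace Abelian

namespace Groth.Agent.ProEtEps19

set_option backward.isDefEq.respectTransparency false
set_option backward.isDefEq.respectTransparency.types false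
set_option linter.style.haveILetI false
set_option linter.unusedSectionVars false
set_option maxHeartbeats 800000

open Groth.Agent.ProEtWC

variable {X : Scheme.{u}}

section Lan

theorem preservesFiniteLimits_lan_eps :
    PreservesFiniteLimits ((ProEtS.eps X).op.lan :
      (X.Etaleᵒᵖ ⥤ AddCommGrpCat.{u + 1}) ⥤ X.ProEtᵒᵖ ⥤ AddCommGrpCat.{u + 1}) := by
  haveI : ∀ W : X.ProEtᵒᵖ,
      HasExactColimitsOfShape (CostructuredArrow (ProEtS.eps X).op W) AddCommGrpCat.{u + 1} := fun W ↦ by
    haveI : IsFiltered (AsSmall.{u + 1} (CostructuredArrow (ProEtS.eps X).op W)) :=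
      IsFiltered.of_equivalence AsSmall.equiv
    haveI : HasExactColimitsOfShape (AsSmall.{u + 1} (CostructuredArrow (ProEtS.eps X).op W))
        AddCommGrpCat.{u + 1} := AB5OfSize.ofShape _
    exact HasExactColimitsOfShape.of_domain_equivalence _ AsSmall.equiv.symm
  apply preservesFiniteLimits_of_preservesFiniteLimitsOfSize.{0}
  intro J _ _
  refine preservesLimitsOfShape_of_evaluation _ J fun W ↦ ?_
  haveI : PreservesFiniteLimits
      (colim (J := CostructuredArrow (ProEtS.eps X).op W) (C := AddCommGrpCat.{u + 1})) :=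
    HasExactColimitsOfShape.preservesFiniteLimits
  exact preservesLimitsOfShape_of_natIso (lanEvalIso _ _).symm

instance preservesFiniteLimits_epsPull [ProEtS.EpsCont X] : PreservesFiniteLimits (ProEtS.epsPull X) := by
  haveI := preservesFiniteLimits_lan_eps (X := X)
  infer_instance

instance preservesFiniteColimits_epsPull [ProEtS.EpsCont X] :
    PreservesFiniteColimits (ProEtS.epsPull X) :=
  haveI := (ProEtS.epsAdj X).isLeftAdjoint
  inferInstance

instance preservesFiniteLimits_epsPush [ProEtS.EpsCont X] : PreservesFiniteLimits (ProEtS.epsPush X) :=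
  haveI := (ProEtS.epsAdj X).isRightAdjoint
  inferInstance

instance additive_epsPull [ProEtS.EpsCont X] : (ProEtS.epsPull X).Additive :=
  (ProEtS.epsAdj X).left_adjoint_additive

instance preservesMono_epsPull [ProEtS.EpsCont X] : (ProEtS.epsPull X).PreservesMonomorphisms :=
  inferInstance

theorem injective_epsPush [ProEtS.EpsCont X] (J : ProEtS.AbP X) [Injective J] :
    Injective ((ProEtS.epsPush X).obj J) :=
  Injective.injective_of_adjoint (ProEtS.epsAdj X) J

end Lan

theorem cochain_d_zero {W Y : X.ProEt} {g : W ⟶ Y} {P : X.ProEtᵒᵖ ⥤ AddCommGrpCat.{u + 1}} (c : Cochain g P 0)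
    (T : X.ProEt) (t : Tup g 1 T) : c.d.val T t = c.val T (t.face 0) - c.val T (t.face 1) := by
  simp [Cochain.d, Fin.sum_univ_two, sub_eq_add_neg]

theorem ses_app {S : ShortComplex (ProEtS.AbP X)} (hS : S.ShortExact) (T : X.ProEtᵒᵖ) :
    Function.Injective (S.f.hom.app T) ∧
      ∀ y, S.g.hom.app T y = 0 → ∃ x, S.f.hom.app T x = y := by
  let E : ProEtS.AbP X ⥤ AddCommGrpCat.{u + 1} :=
    sheafToPresheaf (Scheme.ProEt.topology X) AddCommGrpCat.{u + 1} ⋙ (evaluation _ _).obj T
  haveI : PreservesFiniteLimits E := comp_preservesFiniteLimits _ _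
  haveI : E.Additive := inferInstance
  haveI := hS.mono_f
  have h1 : (S.map E).Exact := hS.exact.map_of_mono_of_preservesKernel E ‹_› inferInstance
  haveI h2 : Mono (E.map S.f) := inferInstance
  exact ⟨(AddCommGrpCat.mono_iff_injective _).1 h2, fun y hy => (ShortComplex.ab_exact_iff _).1 h1 y hy⟩

variable [ProEtS.EpsCont X]

/-- Čech acyclic on the basis with injective restriction. -/
structure Acyc (G : ProEtS.AbP X) : Prop where
  cech : ∀ {W Y : X.ProEt} (g : W ⟶ Y), Bas Y → IndEtMap g → CechExact g G.obj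
  inj : Injective ((ProEtS.epsPush X).obj G)

theorem acyc_epsPull (I : EtCoh.Ab X) [Injective I] : Acyc ((ProEtS.epsPull X).obj I) where
  cech _ hY hg := cechExact_pe I hY hg
  inj := by
    haveI := isIso_unit I
    exact Injective.of_iso (asIso ((ProEtS.epsAdj X).unit.app I)) inferInstance

section Step

variable {S : ShortComplex (ProEtS.AbP X)} (hS : S.ShortExact) (hG : Acyc S.X₁)

include hS hG

theorem surjective_bas {Y : X.ProEt} (hY : Bas Y) : Function.Surjective (S.g.hom.app (op Y)) := by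
  intro x
  obtain ⟨W, g, hg, hgs, hwc⟩ := exists_wc_cover hY
  haveI := hgs
  haveI := hg.affine₁
  haveI := hg.affine₂
  haveI := hS.epi_g
  obtain ⟨e, he⟩ := wc_surjective hwc S.g (S.X₃.obj.map g.op x)
  let p := fun n => (powS g n).toPow
  let c : Cochain g S.X₂.obj 0 :=
    { val := fun T t => S.X₂.obj.map (t.1 0).op e
      nat := fun h t => by rw [← Functor.map_comp_apply, ← op_comp]; rfl }
  have hgc : ∀ T t, S.g.hom.app (op T) (c.val T t) = S.X₃.obj.map (t.1 0 ≫ g).op x := fun T t => by
    show S.g.hom.app (op T) (S.X₂.obj.map (t.1 0).op e) = _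
    rw [NatTrans.naturality_apply S.g.hom, he, ← Functor.map_comp_apply, ← op_comp]
  have hd := cochain_d_zero c
  have hgd : S.g.hom.app _ (c.d.val _ (p 1).u) = 0 := by
    rw [hd, map_sub, hgc, hgc, sub_eq_zero]
    exact congrArg (fun q => S.X₃.obj.map (Quiver.Hom.op q) x) (((p 1).u.2 _).trans ((p 1).u.2 _).symm)
  obtain ⟨a₀, ha₀⟩ := (ses_app hS _).2 _ hgd
  let a := (p 1).cochain (P := S.X₁.obj) a₀
  have ha : ∀ T t, S.f.hom.app (op T) (a.val T t) = c.d.val T t := fun T t => by
    rw [(p 1).eq_cochain c.d T t, ← ha₀]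
    exact NatTrans.naturality_apply S.f.hom ((p 1).lift t).op a₀
  have hda : ∀ T t, a.d.val T t = 0 := fun T t => (ses_app hS (op T)).1 (by
    rw [map_zero, ← Cochain.push_d, show a.push S.f.hom = c.d from Cochain.ext ha]
    exact Cochain.d_d c T t)
  obtain ⟨b, hb⟩ := hG.cech g hY hg 0 a hda
  let c' := c.sub (b.push S.f.hom)
  have hc' : ∀ T t, c'.d.val T t = 0 := fun T t => by
    rw [Cochain.sub_d, Cochain.push_d, hb, ha, sub_self]
  let w : S.X₂.obj.obj (op W) := c'.val W (powZero g).u
  have hw : ∀ Z (q₁ q₂ : Z ⟶ W), q₁ ≫ g = q₂ ≫ g → S.X₂.obj.map q₁.op w = S.X₂.obj.map q₂.op w := by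
    intro Z q₁ q₂ hq
    let t : Tup g 1 Z := ⟨![q₁, q₂], fun k => by
      fin_cases k
      · rfl
      · exact hq.symm⟩
    have h0 : (t.face 0) = Tup.comp q₂ (powZero g).u :=
      Subtype.ext (funext fun k => by
        have hk : k = 0 := Fin.fin_one_eq_zero k
        subst hk
        exact (Category.comp_id q₂).symm)
    have h1 : (t.face 1) = Tup.comp q₁ (powZero g).u :=
      Subtype.ext (funext fun k => by
        have hk : k = 0 := Fin.fin_one_eq_zero k
        subst hk
        exact (Category.comp_id q₁).symm)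
    have h := hc' Z t
    erw [cochain_d_zero c' Z t] at h
    rw [h0, h1, sub_eq_zero, ← c'.nat, ← c'.nat] at h
    exact h.symm
  have hcov : Sieve.generate (Presieve.ofArrows (fun _ : PUnit.{1} => W) fun _ => g) ∈
      Scheme.ProEt.topology X Y := by
    rw [Presieve.ofArrows_pUnit]
    exact singleton_affine_mem g
  have hsh := ((isSheaf_iff_isSheaf_of_type _ _).1
    ((Presheaf.isSheaf_iff_isSheaf_forget _ S.X₂.obj (forget AddCommGrpCat.{u + 1})).1 S.X₂.property)) _ hcov
  rw [← Presieve.isSheafFor_iff_generate] at hsh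
  obtain ⟨y, hy, -⟩ := (Presieve.isSheafFor_arrows_iff _ _).1 hsh (fun _ => w)
    fun _ _ Z q₁ q₂ hq => hw Z q₁ q₂ hq
  refine ⟨y, eq_of_cover hcov S.X₃ _ _ fun Z q hq => ?_⟩
  obtain ⟨Z', q', g', hg', rfl⟩ := hq
  obtain ⟨i⟩ := hg'
  rw [op_comp, Functor.map_comp_apply, Functor.map_comp_apply]
  refine congrArg (S.X₃.obj.map q'.op) ?_
  rw [← NatTrans.naturality_apply S.g.hom]
  rw [show S.X₂.obj.map g.op y = w from hy i]
  show S.g.hom.app _ (c.val W (powZero g).u - S.f.hom.app _ (b.val W (powZero g).u)) = _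
  have h0 : S.g.hom.app (op W) (S.f.hom.app (op W) (b.val W (powZero g).u)) = 0 := by
    rw [← ConcreteCategory.comp_apply, ← NatTrans.comp_app,
      show S.f.hom ≫ S.g.hom = 0 from congrArg (fun e => e.hom) S.zero]
    rfl
  rw [map_sub, h0, sub_zero, hgc]
  exact congrArg (fun q => S.X₃.obj.map (Quiver.Hom.op q) x) (Category.id_comp g)

theorem epi_map_epsPush : Epi ((ProEtS.epsPush X).map S.g) := by
  refine (Sheaf.isLocallySurjective_iff_epi' _ _).1 ⟨fun {U} s => ?_⟩
  have eX : X.smallEtaleTopology =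
      (X.smallPretopology (P := EtCoh.etaleMP) (Q := EtCoh.etaleMP)).toGrothendieck :=
    Scheme.smallGrothendieckTopology_eq_toGrothendieck_smallPretopology X le_rfl
  refine (congrArg (fun T : GrothendieckTopology X.Etale => T U) eX).ge
    ((Scheme.mem_toGrothendieck_smallPretopology U _).2 fun v => ?_)
  obtain ⟨O, hO, hv, -⟩ := exists_isAffineOpen_mem_and_subset (X := U.left) (x := v) (U := ⊤) trivial
  haveI : IsAffine (etSub U O).left := hO
  obtain ⟨t, ht⟩ := surjective_bas hS hG (bas_eps (etSub U O))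
    (((ProEtS.epsPush X).obj S.X₃).obj.map (etSubι U O).op s)
  exact ⟨etSub U O, etSubι U O, ⟨v, hv⟩, ⟨t, ht⟩, inferInstanceAs (Etale O.ι), rfl⟩

theorem shortExact_epsPush : (S.map (ProEtS.epsPush X)).ShortExact := by
  haveI := hS.mono_f
  haveI : Mono (S.map (ProEtS.epsPush X)).f := inferInstanceAs (Mono ((ProEtS.epsPush X).map S.f))
  haveI : Epi (S.map (ProEtS.epsPush X)).g := epi_map_epsPush hS hG
  exact { exact := hS.exact.map_of_mono_of_preservesKernel _ ‹_› inferInstance }

theorem exists_section :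
    ∃ σ : (ProEtS.epsPush X).obj S.X₃ ⟶ (ProEtS.epsPush X).obj S.X₂,
      σ ≫ (ProEtS.epsPush X).map S.g = 𝟙 _ := by
  have h := shortExact_epsPush hS hG
  haveI : Mono (S.map (ProEtS.epsPush X)).f := h.mono_f
  haveI : Epi (S.map (ProEtS.epsPush X)).g := h.epi_g
  haveI : Injective (S.map (ProEtS.epsPush X)).X₁ := hG.inj
  let sp := ShortComplex.Splitting.ofExactOfRetraction _ h.exact
    (Injective.factorThru (𝟙 _) (S.map (ProEtS.epsPush X)).f) (Injective.comp_factorThru _ _)
    inferInstance
  exact ⟨sp.s, sp.s_g⟩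

theorem acyc_quotient [Injective S.X₂] : Acyc S.X₃ where
  cech {W Y} g hY hg := by
    haveI : Injective S.X₂.obj := Injective.injective_of_adjoint (sheafificationAdjunction _ _) S.X₂
    exact cechExact_quotient S.f.hom S.g.hom
      (congrArg (fun e => e.hom) S.zero) (fun n => (powS g n).toPow)
      (fun n => (ses_app hS _).1) (fun n y hy => (ses_app hS _).2 y hy)
      (fun n => surjective_bas hS hG (bas_powS hY hg n)) (hG.cech g hY hg)
      (cechExact_injective.{u + 1} (g := g) (I := S.X₂.obj))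
  inj := by
    obtain ⟨σ, hσ⟩ := exists_section hS hG
    haveI := injective_epsPush S.X₂
    exact { factors := fun a f _ =>
      ⟨Injective.factorThru (a ≫ σ) f ≫ (ProEtS.epsPush X).map S.g, by
        rw [← Category.assoc, Injective.comp_factorThru, Category.assoc, hσ, Category.comp_id]⟩ }

end Step

theorem exists_embedding (G : ProEtS.AbP X) :
    ∃ S : ShortComplex (ProEtS.AbP X), S.ShortExact ∧ S.X₁ = G ∧ Injective S.X₂ :=
  ⟨ShortComplex.mk (Injective.ι G) _ (cokernel.condition _),
    { exact := ShortComplex.exact_cokernel _ }, rfl, inferInstanceAs (Injective (Injective.under G))⟩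

theorem subsingleton_ext (A : EtCoh.Ab X) : ∀ (n : ℕ) (G : ProEtS.AbP X), Acyc G →
    Subsingleton (Ext ((ProEtS.epsPull X).obj A) G (n + 1)) := by
  intro n
  induction n with
  | zero =>
    intro G hG
    obtain ⟨S, hS, rfl, _⟩ := exists_embedding G
    refine subsingleton_of_forall_eq 0 fun x => ?_
    obtain ⟨x₃, rfl⟩ := Ext.covariant_sequence_exact₁ _ hS x (Ext.eq_zero_of_injective _) (n₀ := 0) rfl
    obtain ⟨q, rfl⟩ := (Ext.mk₀_bijective _ _).2 x₃
    obtain ⟨σ, hσ⟩ := exists_section hS hG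
    let l := ((ProEtS.epsAdj X).homEquiv A S.X₂).symm ((ProEtS.epsAdj X).homEquiv A S.X₃ q ≫ σ)
    have hl : l ≫ S.g = q := by
      rw [← (ProEtS.epsAdj X).homEquiv_naturality_right_symm, Category.assoc, hσ, Category.comp_id,
        Equiv.symm_apply_apply]
    rw [← hl, ← Ext.mk₀_comp_mk₀, Ext.comp_assoc (a₁₂ := 0) (a₂₃ := 1) _ _ _ rfl rfl rfl,
      hS.comp_extClass, Ext.comp_zero]
  | succ n ih =>
    intro G hG
    obtain ⟨S, hS, rfl, _⟩ := exists_embedding G
    haveI := ih S.X₃ (acyc_quotient hS hG)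
    refine subsingleton_of_forall_eq 0 fun x => ?_
    obtain ⟨x₃, rfl⟩ := Ext.covariant_sequence_exact₁ _ hS x (Ext.eq_zero_of_injective _) (n₀ := n + 1) rfl
    rw [Subsingleton.elim x₃ 0, Ext.zero_comp]

theorem isZero_repsPush : ∀ (q : ℕ) (G : ProEtS.AbP X), Acyc G →
    IsZero ((ProEtS.RepsPush X (q + 1)).obj G) := by
  intro q
  induction q with
  | zero =>
    intro G hG
    obtain ⟨S, hS, rfl, _⟩ := exists_embedding G
    obtain ⟨e⟩ := SheafVan16.nonempty_rightDerived_one_iso_cokernel (ProEtS.epsPush X) hS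
      (Functor.isZero_rightDerived_obj_injective_succ _ 0 S.X₂)
    haveI := epi_map_epsPush hS hG
    exact (isZero_cokernel_of_epi _).of_iso e
  | succ q ih =>
    intro G hG
    obtain ⟨S, hS, rfl, _⟩ := exists_embedding G
    obtain ⟨e⟩ := SheafVan16.nonempty_rightDerived_succ_iso (ProEtS.epsPush X) hS q
      (Functor.isZero_rightDerived_obj_injective_succ _ q S.X₂)
      (Functor.isZero_rightDerived_obj_injective_succ _ (q + 1) S.X₂)
    exact (ih _ (acyc_quotient hS hG)).of_iso e

end Groth.Agent.ProEtEps19
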