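import Groth.Agent.Lib.ProEtEps19.Descend
import Groth.Agent.Lib.ProEtEps19.Cochain
import Groth.Agent.Lib.ProEtWC.Cover
import Groth.Agent.Lib.WLocal.IndRing

/-! Affine ind-étale objects and their fibre powers. -/

universe u

open CategoryTheory Limits AlgebraicGeometry Opposite TopologicalSpace

namespace Groth.Agent.ProEtEps19

set_option backward.isDefEq.respectTransparency false
set_option backward.isDefEq.respectTransparency.types false
set_option linter.style.haveILetI false
set_option maxHeartbeats 800000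

open Groth.Agent.ProEtWC

variable {X : Scheme.{u}}

/-- Ind-étale ring maps. -/
abbrev indEt : MorphismProperty CommRingCat.{u} := MorphismProperty.ind.{u} WLocal.etaleMP.{u}

/-- A map of affine objects which is ind-étale on rings. -/
structure IndEtMap {W Y : X.ProEt} (g : W ⟶ Y) : Prop where
  affine₁ : IsAffine W.left
  affine₂ : IsAffine Y.left
  ind : indEt g.left.appTop

/-- The affine objects ind-étale over an affine étale object. -/
def Bas (Y : X.ProEt) : Prop :=
  ∃ (U : X.Etale) (g : Y ⟶ (ProEtS.eps X).obj U), IsAffine U.left ∧ IndEtMap g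

theorem indEt_of_etale {A B : CommRingCat.{u}} {f : A ⟶ B} (hf : WLocal.etaleMP f) : indEt f :=
  MorphismProperty.le_ind (P := WLocal.etaleMP.{u}) _ hf

theorem IndEtMap.comp {W Y Z : X.ProEt} {g : W ⟶ Y} {h : Y ⟶ Z} (hg : IndEtMap g) (hh : IndEtMap h) :
    IndEtMap (g ≫ h) where
  affine₁ := hg.affine₁
  affine₂ := hh.affine₂
  ind := by
    show indEt (g.left ≫ h.left).appTop
    rw [Scheme.Hom.comp_appTop]
    exact MorphismProperty.comp_mem _ _ _ hh.ind hg.ind

theorem bas_eps (U : X.Etale) [IsAffine U.left] : Bas ((ProEtS.eps X).obj U) :=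
  ⟨U, 𝟙 _, ‹_›, ‹IsAffine U.left›, ‹IsAffine U.left›, by
    show indEt (𝟙 U.left : U.left ⟶ U.left).appTop
    rw [Scheme.Hom.id_appTop]
    exact MorphismProperty.id_mem _ _⟩

theorem Bas.of_indEtMap {W Y : X.ProEt} {g : W ⟶ Y} (hY : Bas Y) (hg : IndEtMap g) : Bas W := by
  obtain ⟨U, h, hU, hh⟩ := hY
  exact ⟨U, g ≫ h, hU, hg.comp hh⟩

theorem Bas.isAffine {Y : X.ProEt} (hY : Bas Y) : IsAffine Y.left := by
  obtain ⟨U, h, hU, hh⟩ := hY
  exact hh.affine₁

theorem IndEtMap.fib₁ {W Y T : X.ProEt} {g : W ⟶ Y} {f : T ⟶ Y} (hf : IsAffine T.left) (hg : IndEtMap g) :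
    IndEtMap (fib₁ f g) := by
  haveI := hg.affine₁; haveI := hg.affine₂; haveI := hf
  haveI : IsAffine (fib f g).left := inferInstanceAs (IsAffine (pullback f.left g.left))
  refine ⟨inferInstance, hf, ?_⟩
  exact MorphismProperty.of_isPushout
    (isPushout_appTop_of_isPullback (IsPullback.of_hasPullback f.left g.left)) hg.ind

/-- A power with the universal property in schemes. -/
structure PowS {W Y : X.ProEt} (g : W ⟶ Y) (n : ℕ) extends Pow g n where
  /-- the map to the base -/
  toBase : R ⟶ Y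
  toBase_eq : toBase = u.1 0 ≫ g
  ind : IndEtMap g → IndEtMap toBase
  scheme_lift : ∀ {T : Scheme.{u}} (x : Fin (n + 1) → (T ⟶ W.left)),
    (∀ k, x k ≫ g.left = x 0 ≫ g.left) → ∃ a : T ⟶ R.left, ∀ k, a ≫ (u.1 k).left = x k
  scheme_ext : ∀ {T : Scheme.{u}} (a b : T ⟶ R.left),
    (∀ k, a ≫ (u.1 k).left = b ≫ (u.1 k).left) → a = b

/-- The zeroth power. -/
noncomputable def powZero {W Y : X.ProEt} (g : W ⟶ Y) : PowS g 0 where
  R := W
  u := ⟨fun _ => 𝟙 W, fun _ => rfl⟩
  lift x := x.1 0
  fac x := Subtype.ext (funext fun k => by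
    have hk : k = 0 := Fin.fin_one_eq_zero k
    subst hk
    exact Category.comp_id _)
  hom_ext a b h := by
    have := congrFun (congrArg Subtype.val h) 0
    simpa [Tup.comp] using this
  toBase := g
  toBase_eq := (Category.id_comp g).symm
  ind h := h
  scheme_lift x _ := ⟨x 0, fun k => by
    have hk : k = 0 := Fin.fin_one_eq_zero k
    subst hk
    exact Category.comp_id _⟩
  scheme_ext a b h := by
    have := h 0
    erw [Category.comp_id, Category.comp_id] at this
    exact this

theorem Tup.const_base {W Y T : X.ProEt} {g : W ⟶ Y} {n : ℕ} (x : Tup g (n + 1) T) (k : Fin (n + 1)) :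
    x.1 k.succ ≫ g = x.1 (Fin.succ 0) ≫ g := (x.2 _).trans (x.2 _).symm

/-- The universal tuple of the next power. -/
noncomputable def powU {W Y : X.ProEt} {g : W ⟶ Y} {n : ℕ} (p : PowS g n) : Fin (n + 2) → (fib p.toBase g ⟶ W) :=
  Fin.cons (fib₂ p.toBase g) (fun k => ProEtEps19.fib₁ p.toBase g ≫ p.u.1 k)

theorem powU_zero {W Y : X.ProEt} {g : W ⟶ Y} {n : ℕ} (p : PowS g n) : powU p 0 = fib₂ p.toBase g :=
  Fin.cons_zero _ _

theorem powU_succ {W Y : X.ProEt} {g : W ⟶ Y} {n : ℕ} (p : PowS g n) (k : Fin (n + 1)) :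
    powU p k.succ = ProEtEps19.fib₁ p.toBase g ≫ p.u.1 k :=
  Fin.cons_succ _ _ _

/-- The next power. -/
noncomputable def powSucc {W Y : X.ProEt} {g : W ⟶ Y} {n : ℕ} (p : PowS g n) : PowS g (n + 1) where
  R := fib p.toBase g
  u := ⟨powU p, fun k => by
    refine Fin.cases rfl (fun k => ?_) k
    rw [powU_succ, powU_zero, Category.assoc, p.u.2 k, ← fib_condition]
    exact congrArg (_ ≫ ·) p.toBase_eq.symm⟩
  lift {T} x := fibLift (p.lift ⟨fun k => x.1 k.succ, Tup.const_base x⟩) (x.1 0) (by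
    rw [p.toBase_eq, ← Category.assoc]
    have := congrFun (congrArg Subtype.val (p.fac ⟨fun k => x.1 k.succ, Tup.const_base x⟩)) 0
    exact (congrArg (· ≫ g) this).trans (x.2 _))
  fac {T} x := Subtype.ext (funext fun k => by
    refine Fin.cases ?_ (fun k => ?_) k
    · show _ ≫ powU p 0 = _
      rw [powU_zero, fibLift₂]
    · show _ ≫ powU p k.succ = _
      rw [powU_succ, ← Category.assoc, fibLift₁]
      exact congrFun (congrArg Subtype.val (p.fac ⟨fun k => x.1 k.succ, Tup.const_base x⟩)) k)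
  hom_ext {T} a b h := by
    have h0 := fun k => congrFun (congrArg Subtype.val h) k
    refine MorphismProperty.Over.Hom.ext (pullback.hom_ext ?_ ?_)
    · refine left_eq (p.hom_ext (a ≫ fib₁ p.toBase g) (b ≫ fib₁ p.toBase g) (Subtype.ext (funext fun k => ?_)))
      have hk : a ≫ powU p k.succ = b ≫ powU p k.succ := h0 k.succ
      rw [powU_succ, ← Category.assoc, ← Category.assoc] at hk
      exact hk
    · have hk : a ≫ powU p 0 = b ≫ powU p 0 := h0 0
      rw [powU_zero] at hk
      exact left_eq hk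
  toBase := fib₁ p.toBase g ≫ p.toBase
  toBase_eq := ((fib_condition _ _).trans (congrArg (· ≫ g) (powU_zero p).symm))
  ind h := (IndEtMap.fib₁ (p.ind h).affine₁ h).comp (p.ind h)
  scheme_lift {T} x hx := by
    obtain ⟨a, ha⟩ := p.scheme_lift (fun k => x k.succ) fun k => (hx _).trans (hx _).symm
    have hb : a ≫ p.toBase.left = x 0 ≫ g.left := by
      rw [left_eq p.toBase_eq]
      show a ≫ (p.u.1 0).left ≫ g.left = _
      rw [← Category.assoc, ha]
      exact hx _
    refine ⟨pullback.lift a (x 0) hb, fun k => ?_⟩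
    refine Fin.cases ?_ (fun k => ?_) k
    · show _ ≫ (powU p 0).left = _
      refine (congrArg (fun q : fib p.toBase g ⟶ W => _ ≫ q.left) (powU_zero p)).trans ?_
      exact pullback.lift_snd _ _ _
    · show _ ≫ (powU p k.succ).left = _
      refine (congrArg (fun q : fib p.toBase g ⟶ W => _ ≫ q.left) (powU_succ p k)).trans ?_
      exact ((Category.assoc _ _ _).symm.trans (congrArg (· ≫ (p.u.1 k).left) (pullback.lift_fst _ _ _))).trans (ha k)
  scheme_ext {T} a b h := by
    refine pullback.hom_ext (p.scheme_ext _ _ fun k => ?_) ?_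
    · have hk : a ≫ (powU p k.succ).left = b ≫ (powU p k.succ).left := h k.succ
      have e : (powU p k.succ).left = pullback.fst _ _ ≫ (p.u.1 k).left := left_eq (powU_succ p k)
      rw [e] at hk
      exact ((Category.assoc _ _ _).trans hk).trans (Category.assoc _ _ _).symm
    · have hk : a ≫ (powU p 0).left = b ≫ (powU p 0).left := h 0
      have e : (powU p 0).left = pullback.snd _ _ := left_eq (powU_zero p)
      rw [e] at hk
      exact hk

/-- All powers. -/
noncomputable def powS {W Y : X.ProEt} (g : W ⟶ Y) : ∀ n, PowS g n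
  | 0 => powZero g
  | n + 1 => powSucc (powS g n)

theorem bas_powS {W Y : X.ProEt} {g : W ⟶ Y} (hY : Bas Y) (hg : IndEtMap g) (n : ℕ) : Bas (powS g n).R :=
  hY.of_indEtMap ((powS g n).ind hg)

theorem isAffine_powS {W Y : X.ProEt} (g : W ⟶ Y) [IsAffine W.left] [IsAffine Y.left] :
    ∀ n, IsAffine (powS g n).R.left
  | 0 => ‹IsAffine W.left›
  | n + 1 =>
    haveI := isAffine_powS g n
    inferInstanceAs (IsAffine (pullback (powS g n).toBase.left g.left))

/-- Every object of the basis has a weakly contractible ind-étale cover. -/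
theorem exists_wc_cover {Y : X.ProEt} (hY : Bas Y) :
    ∃ (W : X.ProEt) (g : W ⟶ Y), IndEtMap g ∧ Surjective g.left ∧ ProEtS.IsWC W := by
  haveI := hY.isAffine
  obtain ⟨D, _, _, hff, hD, hwc⟩ := WLocal.exists_wContractible_cover Γ(Y.left, ⊤)
  haveI := hff
  let f := Spec.map (CommRingCat.ofHom (algebraMap Γ(Y.left, ⊤) D))
  haveI : WeaklyEtale f := WEtSch4.weaklyEtale_SpecMap_iff.2 (WEtaleH7.weaklyEtale_of_isIndEtale hD)
  haveI : Surjective f := ⟨PrimeSpectrum.comap_surjective_of_faithfullyFlat⟩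
  let w : Spec (CommRingCat.of D) ⟶ Y.left := f ≫ Y.left.isoSpec.inv
  haveI : Surjective w := inferInstanceAs (Surjective (f ≫ Y.left.isoSpec.inv))
  haveI : WeaklyEtale w := inferInstanceAs (WeaklyEtale (f ≫ Y.left.isoSpec.inv))
  let W := overObj Y w
  haveI : IsAffine W.left := inferInstanceAs (IsAffine (Spec (CommRingCat.of D)))
  refine ⟨W, overHom Y w, ⟨inferInstance, inferInstance, ?_⟩, inferInstanceAs (Surjective w),
    (isWC_iff_hasSections W).2 ((hasSections_spec_iff _).2 hwc)⟩
  show indEt w.appTop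
  refine (MorphismProperty.arrow_mk_iso_iff indEt ?_).2 ((WLocal.isIndEtale_iff _ _).1 hD)
  exact Arrow.isoMk (Iso.refl _) (Scheme.ΓSpecIso (CommRingCat.of D)) (by
    have h0 : (Y.left.isoSpec.inv).appTop ≫ (Scheme.ΓSpecIso Γ(Y.left, ⊤)).hom = 𝟙 _ := by
      rw [← Scheme.toSpecΓ_appTop, ← Scheme.Hom.comp_appTop, Scheme.toSpecΓ_isoSpec_inv, Scheme.Hom.id_appTop]
    simp [w, f]
    exact ((Category.assoc _ _ _).symm.trans ((congrArg (· ≫ _) h0).trans (Category.id_comp _))).symm)

theorem wc_surjective {W : X.ProEt} (hW : ProEtS.IsWC W) {J Q : ProEtS.AbP X} (φ : J ⟶ Q) [Epi φ] :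
    Function.Surjective (φ.hom.app (op W)) := by
  haveI : Sheaf.IsLocallySurjective φ := (Sheaf.isLocallySurjective_iff_epi' _ φ).2 inferInstance
  let ψ := (sheafCompose (Scheme.ProEt.topology X) (forget AddCommGrpCat.{u + 1})).map φ
  haveI : Sheaf.IsLocallySurjective ψ := inferInstance
  exact hW _ _ ψ ((Sheaf.isLocallySurjective_iff_epi ψ).1 inferInstance)

end Groth.Agent.ProEtEps19
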