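import Groth.Agent.Lib.ProEtEps19.Stage

/-! Sections of the pull-back over a limit come from a finite stage. -/

universe u

open CategoryTheory Limits AlgebraicGeometry Opposite TopologicalSpace

namespace Groth.Agent.ProEtEps19

set_option backward.isDefEq.respectTransparency false
set_option backward.isDefEq.respectTransparency.types false
set_option linter.style.haveILetI false
set_option maxHeartbeats 1600000

open Groth.Agent.ProEtWC

variable {X : Scheme.{u}}

/-- Equality of morphisms of the site. -/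
theorem left_eq {P Q : X.ProEt} {f g : P ⟶ Q} (h : f = g) : f.left = g.left :=
  congrArg (fun e => CommaMorphism.left (MorphismProperty.Comma.Hom.hom e)) h

/-- The fibre product in the site. -/
noncomputable abbrev fib {P Q Y : X.ProEt} (g : P ⟶ Y) (h : Q ⟶ Y) : X.ProEt :=
  haveI := weaklyEtale_left h
  overObj P (pullback.fst g.left h.left)

/-- The first projection. -/
noncomputable abbrev fib₁ {P Q Y : X.ProEt} (g : P ⟶ Y) (h : Q ⟶ Y) : fib g h ⟶ P :=
  MorphismProperty.Over.homMk (pullback.fst g.left h.left)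

/-- The second projection. -/
noncomputable abbrev fib₂ {P Q Y : X.ProEt} (g : P ⟶ Y) (h : Q ⟶ Y) : fib g h ⟶ Q :=
  MorphismProperty.Over.homMk (pullback.snd g.left h.left)
    (((congrArg (pullback.snd g.left h.left ≫ ·) (MorphismProperty.Over.w h).symm).trans
      (Category.assoc _ _ _).symm).trans ((congrArg (· ≫ Y.hom) pullback.condition.symm).trans
      ((Category.assoc _ _ _).trans (congrArg (pullback.fst g.left h.left ≫ ·) (MorphismProperty.Over.w g)))))

theorem fib_condition {P Q Y : X.ProEt} (g : P ⟶ Y) (h : Q ⟶ Y) : fib₁ g h ≫ g = fib₂ g h ≫ h :=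
  MorphismProperty.Over.Hom.ext pullback.condition

/-- The lift to the fibre product. -/
noncomputable abbrev fibLift {W P Q Y : X.ProEt} {g : P ⟶ Y} {h : Q ⟶ Y} (a : W ⟶ P) (b : W ⟶ Q)
    (e : a ≫ g = b ≫ h) : W ⟶ fib g h :=
  MorphismProperty.Over.homMk (pullback.lift a.left b.left (left_eq e))
    ((Category.assoc _ _ _).symm.trans ((congrArg (· ≫ P.hom) (pullback.lift_fst _ _ _)).trans
      (MorphismProperty.Over.w a)))

theorem fibLift₁ {W P Q Y : X.ProEt} {g : P ⟶ Y} {h : Q ⟶ Y} (a : W ⟶ P) (b : W ⟶ Q) (e : a ≫ g = b ≫ h) :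
    fibLift a b e ≫ fib₁ g h = a :=
  MorphismProperty.Over.Hom.ext (pullback.lift_fst _ _ _)

theorem fibLift₂ {W P Q Y : X.ProEt} {g : P ⟶ Y} {h : Q ⟶ Y} (a : W ⟶ P) (b : W ⟶ Q) (e : a ≫ g = b ≫ h) :
    fibLift a b e ≫ fib₂ g h = b :=
  MorphismProperty.Over.Hom.ext (pullback.lift_snd _ _ _)

theorem exists_fib_point {P Q Y : X.ProEt} (g : P ⟶ Y) (h : Q ⟶ Y) (x : P.left) (y : Q.left)
    (e : g.left x = h.left y) : ∃ z : (fib g h).left, (fib₁ g h).left z = x ∧ (fib₂ g h).left z = y :=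
  Scheme.Pullback.exists_preimage_pullback (f := g.left) (g := h.left) x y e

variable [ProEtS.EpsCont X] (F : EtCoh.Ab X)
  {I : Type u} [SmallCategory I] [IsCofiltered I] {D : I ⥤ X.ProEt}
  [∀ (i j : I) (a : i ⟶ j), IsAffineHom (D.map a).left]
  [∀ i, CompactSpace (D.obj i).left] [∀ i, QuasiSeparatedSpace (D.obj i).left]
  {c : Cone D} (hc : IsLimit ((Scheme.ProEt.forget X ⋙ Over.forget X).mapCone c))
  (σ : (pe F).obj (op c.pt))

/-- A local extension of `σ` to a stage. -/
structure Loc (j : I) where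
  /-- the domain -/
  O : X.ProEt
  [aff : IsAffine O.left]
  /-- the map to the stage -/
  e : O ⟶ D.obj j
  [et : Etale e.left]
  /-- the section -/
  s : (pe F).obj (op O)
  eq : ∀ (W : X.ProEt) (a : W ⟶ O) (b : W ⟶ c.pt), a ≫ e = b ≫ c.π.app j →
    (pe F).map a.op s = (pe F).map b.op σ

attribute [instance] Loc.aff Loc.et

variable {F σ}

/-- The points covered by a local extension. -/
def Loc.cov {j : I} (L : Loc (c := c) F σ j) : Set c.pt.left := (c.π.app j).left ⁻¹' Set.range L.e.left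

theorem Loc.isOpen_cov {j : I} (L : Loc (c := c) F σ j) : IsOpen L.cov :=
  L.e.left.isOpenMap.isOpen_range.preimage (c.π.app j).left.continuous

/-- Move a local extension to a later stage. -/
noncomputable def Loc.pull {j k : I} (L : Loc (c := c) F σ j) (f : k ⟶ j) : Loc (c := c) F σ k :=
  haveI : IsAffineHom (pullback.fst L.e.left (D.map f).left) := MorphismProperty.pullback_fst _ _ inferInstance
  haveI : IsAffine (fib L.e (D.map f)).left := isAffine_of_isAffineHom (pullback.fst L.e.left (D.map f).left)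
  haveI : Etale (fib₂ L.e (D.map f)).left := MorphismProperty.pullback_snd _ _ L.et
  { O := fib L.e (D.map f)
    e := fib₂ L.e (D.map f)
    s := (pe F).map (fib₁ L.e (D.map f)).op L.s
    eq := fun W a b h => by
      rw [← Functor.map_comp_apply, ← op_comp]
      refine L.eq W _ b ?_
      rw [Category.assoc, fib_condition, ← Category.assoc, h, Category.assoc, c.w] }

theorem Loc.cov_pull {j k : I} (L : Loc (c := c) F σ j) (f : k ⟶ j) : L.cov ⊆ (L.pull f).cov := by
  rintro y ⟨o, ho⟩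
  have hy : (D.map f).left ((c.π.app k).left y) = L.e.left o := by
    rw [ho]
    exact congr($(left_eq (c.w f)) y)
  obtain ⟨z, -, hz⟩ := exists_fib_point L.e (D.map f) o ((c.π.app k).left y) hy.symm
  exact ⟨z, hz⟩

include hc in
theorem exists_loc (y : c.pt.left) : ∃ (j : I) (L : Loc (c := c) F σ j), y ∈ L.cov := by
  obtain ⟨i⟩ := IsCofiltered.nonempty (C := I)
  obtain ⟨S, hS, hS'⟩ := exists_rep F σ
  obtain ⟨W, g, w, hg, hw⟩ := exists_point_of_cover hS y
  obtain ⟨V₀, a, t₀, ha⟩ := hS' g hg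
  obtain ⟨U, hU, hyU, -⟩ := exists_isAffineOpen_mem_and_subset (X := X) (x := c.pt.hom y) (U := ⊤) trivial
  have hwV : V₀.hom (a.left w) = c.pt.hom y := by
    rw [← hw]
    exact (congr($(MorphismProperty.Over.w a) w)).trans (congr($(MorphismProperty.Over.w g) w)).symm
  obtain ⟨V, hV, haV, hVU⟩ := exists_isAffineOpen_mem_and_subset (X := V₀.left) (x := a.left w)
    (U := V₀.hom ⁻¹ᵁ U) (show V₀.hom (a.left w) ∈ U by rw [hwV]; exact hyU)
  have hyi : (D.obj i).hom ((c.π.app i).left y) ∈ U := by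
    have := congr($(MorphismProperty.Over.w (c.π.app i)) y)
    exact (congrArg (· ∈ U) this).mpr hyU
  obtain ⟨A, hA, hyA, hAU⟩ := exists_isAffineOpen_mem_and_subset (X := (D.obj i).left)
    (x := (c.π.app i).left y) (U := (D.obj i).hom ⁻¹ᵁ U) hyi
  haveI : IsAffine U.toScheme := hU
  haveI : IsAffine V.toScheme := hV
  haveI : IsAffine A.toScheme := hA
  let v' : V.toScheme ⟶ U.toScheme := V₀.hom.resLE U V hVU
  let a' : A.toScheme ⟶ U.toScheme := (D.obj i).hom.resLE U A hAU
  haveI : Etale v' := by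
    haveI : Etale V₀.hom := V₀.prop
    haveI : Etale (v' ≫ U.ι) := by rw [Scheme.Hom.resLE_comp_ι]; infer_instance
    exact Etale.of_comp v' U.ι
  haveI : Etale (pullback.fst a' v') := MorphismProperty.pullback_fst _ _ ‹_›
  haveI : Etale (pullback.fst a' v' ≫ A.ι) := inferInstance
  let Q := overObj (D.obj i) (pullback.fst a' v' ≫ A.ι)
  let e : Q ⟶ D.obj i := overHom (D.obj i) (pullback.fst a' v' ≫ A.ι)
  haveI : IsAffine Q.left := inferInstanceAs (IsAffine (pullback a' v'))
  have hq₂ : pullback.snd a' v' ≫ V.ι ≫ V₀.hom = (pullback.fst a' v' ≫ A.ι) ≫ (D.obj i).hom := by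
    rw [← Scheme.Hom.resLE_comp_ι V₀.hom hVU, ← pullback.condition_assoc, Scheme.Hom.resLE_comp_ι,
      Category.assoc]
  let q : Q ⟶ (ProEtS.eps X).obj V₀ := MorphismProperty.Over.homMk (pullback.snd a' v' ≫ V.ι)
    ((Category.assoc _ _ _).trans hq₂)
  let t := rep F q t₀
  let δ := (pe F).map (fib₂ e (c.π.app i)).op σ - (pe F).map (fib₁ e (c.π.app i)).op t
  -- a point of the limit lying over `y` at which the difference vanishes
  let W₀ : W.left.Opens := a.left ⁻¹ᵁ V ⊓ g.left ⁻¹ᵁ ((c.π.app i).left ⁻¹ᵁ A)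
  have hw₀ : w ∈ W₀ := ⟨haV, show (c.π.app i).left (g.left w) ∈ A by rw [hw]; exact hyA⟩
  let gA : W₀.toScheme ⟶ A.toScheme := IsOpenImmersion.lift A.ι (W₀.ι ≫ g.left ≫ (c.π.app i).left) (by
    rintro _ ⟨z, rfl⟩
    exact (Scheme.Opens.range_ι _).ge z.2.2)
  let aV : W₀.toScheme ⟶ V.toScheme := IsOpenImmersion.lift V.ι (W₀.ι ≫ a.left) (by
    rintro _ ⟨z, rfl⟩
    exact (Scheme.Opens.range_ι _).ge z.2.1)
  have hgA : gA ≫ A.ι = W₀.ι ≫ g.left ≫ (c.π.app i).left := IsOpenImmersion.lift_fac _ _ _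
  have haV' : aV ≫ V.ι = W₀.ι ≫ a.left := IsOpenImmersion.lift_fac _ _ _
  have hga : gA ≫ a' = aV ≫ v' := by
    rw [← cancel_mono U.ι, Category.assoc, Category.assoc, Scheme.Hom.resLE_comp_ι, Scheme.Hom.resLE_comp_ι,
      ← Category.assoc, ← Category.assoc, hgA, haV']
    refine (Category.assoc _ _ _).trans (Eq.trans ?_ (Category.assoc _ _ _).symm)
    refine congrArg (W₀.ι ≫ ·) ?_
    exact (MorphismProperty.Over.w (g ≫ c.π.app i)).trans (MorphismProperty.Over.w a).symm
  let W₁ := overObj W W₀.ι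
  let ι₁ : W₁ ⟶ W := overHom W W₀.ι
  have hk : pullback.lift gA aV hga ≫ pullback.fst a' v' ≫ A.ι = (ι₁ ≫ g ≫ c.π.app i).left := by
    rw [pullback.lift_fst_assoc, hgA]; rfl
  let k : W₁ ⟶ Q := MorphismProperty.Over.homMk (pullback.lift gA aV hga) (by
    refine Eq.trans ?_ (MorphismProperty.Over.w (ι₁ ≫ g ≫ c.π.app i))
    rw [← hk]; simp [Q])
  have hke : k ≫ e = (ι₁ ≫ g) ≫ c.π.app i := by
    rw [Category.assoc]; exact MorphismProperty.Over.Hom.ext hk
  have hkq : k ≫ q = ι₁ ≫ a := MorphismProperty.Over.Hom.ext (by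
    show pullback.lift gA aV hga ≫ pullback.snd a' v' ≫ V.ι = W₀.ι ≫ a.left
    rw [pullback.lift_snd_assoc, haV'])
  let l : W₁ ⟶ fib e (c.π.app i) := fibLift k (ι₁ ≫ g) hke
  have hl : (pe F).map l.op δ = 0 := by
    rw [map_sub, sub_eq_zero, ← Functor.map_comp_apply, ← Functor.map_comp_apply, ← op_comp, ← op_comp,
      fibLift₁, fibLift₂, op_comp, Functor.map_comp_apply]
    erw [ha, map_rep, map_rep, hkq]
  have hp : l.left ⟨w, hw₀⟩ ∈ pZero F δ := by
    rw [← pZero_map F δ l, hl]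
    exact Opens.mem_sSup.2 ⟨⊤, map_zero _, trivial⟩
  -- shrink to a neighbourhood coming from a stage
  let D₀ := D ⋙ Scheme.ProEt.forget X ⋙ Over.forget X
  haveI : ∀ {i j : I} (b : i ⟶ j), IsAffineHom (D₀.map b) := fun {i j} b =>
    inferInstanceAs (IsAffineHom (D.map b).left)
  let hbc := isLimitBcCone D₀ ((Scheme.ProEt.forget X ⋙ Over.forget X).mapCone c) hc e.left
  obtain ⟨_, ⟨j, O, hO, rfl⟩, hpO, hOle⟩ := Opens.isBasis_iff_nbhd.1
    (isBasis_preimage_isAffineOpen _ _ hbc) (U := (pZero F δ)) hp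
  let f := D.map j.hom
  let O' : (fib e f).left.Opens := O
  let P := overObj (fib e f) O'.ι
  haveI : IsAffine P.left := hO
  haveI : Etale (fib₂ e f).left := MorphismProperty.pullback_snd _ _ (inferInstanceAs (Etale (pullback.fst a' v' ≫ A.ι)))
  let eP : P ⟶ D.obj j.left := overHom (fib e f) O'.ι ≫ fib₂ e f
  haveI : Etale eP.left := inferInstanceAs (Etale (O'.ι ≫ (fib₂ e f).left))
  refine ⟨j.left,
    { O := P
      e := eP
      s := (pe F).map (overHom (fib e f) O'.ι ≫ fib₁ e f).op t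
      eq := fun W' a₂ b₂ h => ?_ }, ?_⟩
  · rw [← Functor.map_comp_apply, ← op_comp]
    have h2 : (a₂ ≫ overHom (fib e f) O'.ι ≫ fib₁ e f) ≫ e = b₂ ≫ c.π.app i := by
      simp only [Category.assoc, fib_condition]
      rw [← Category.assoc, ← Category.assoc]
      refine (congrArg (· ≫ f) ((Category.assoc _ _ _).trans h)).trans ?_
      rw [Category.assoc, c.w]
    have h0 : (pe F).map (fibLift _ b₂ h2).op δ = 0 := by
      refine eq_zero_of_pZero F _ fun z => ?_
      rw [pZero_map]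
      refine hOle ?_
      have he : (fibLift _ b₂ h2).left ≫ (bcCone D₀ ((Scheme.ProEt.forget X ⋙ Over.forget X).mapCone c) e.left).π.app j =
          a₂.left ≫ O'.ι := by
        refine pullback.hom_ext ?_ ?_
        · simp [bcCone]
          erw [pullback.lift_fst]
          rfl
        · simp [bcCone]
          erw [pullback.lift_snd_assoc]
          exact (left_eq h).symm
      exact (congrArg (· ∈ O) congr($he z)).mpr (a₂.left z).2
    rw [map_sub, sub_eq_zero, ← Functor.map_comp_apply, ← Functor.map_comp_apply, ← op_comp, ← op_comp,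
      fibLift₁, fibLift₂] at h0
    exact h0.symm
  · refine ⟨⟨_, hpO⟩, ?_⟩
    have he : l.left ≫ (bcCone D₀ ((Scheme.ProEt.forget X ⋙ Over.forget X).mapCone c) e.left).π.app j ≫
        pullback.snd e.left f.left = W₀.ι ≫ g.left ≫ (c.π.app j.left).left := by
      simp [bcCone, l, f, D₀, ι₁]
      erw [pullback.lift_snd, pullback.lift_snd_assoc]
      exact Category.assoc _ _ _
    exact congr($he ⟨w, hw₀⟩).trans (congrArg _ hw)

include hc in
theorem exists_family : ∃ (j : I) (n : ℕ) (L : Fin n → Loc (c := c) F σ j),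
    ∀ z : (D.obj j).left, ∃ r, z ∈ Set.range (L r).e.left := by
  classical
  let D₀ := D ⋙ Scheme.ProEt.forget X ⋙ Over.forget X
  haveI : ∀ {i j : I} (b : i ⟶ j), IsAffineHom (D₀.map b) := fun {i j} b =>
    inferInstanceAs (IsAffineHom (D.map b).left)
  haveI : ∀ i, CompactSpace (D₀.obj i) := fun i => inferInstanceAs (CompactSpace (D.obj i).left)
  haveI : CompactSpace c.pt.left := Scheme.compactSpace_of_isLimit D₀ _ hc
  choose J L hL using exists_loc (F := F) (σ := σ) hc
  obtain ⟨T, hT⟩ := CompactSpace.elim_nhds_subcover (fun y => (L y).cov)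
    fun y => (L y).isOpen_cov.mem_nhds (hL y)
  obtain ⟨j, hj⟩ := IsCofiltered.inf_objs_exists (T.image J)
  let f : ∀ r : T, j ⟶ J r.1 := fun r => (hj (Finset.mem_image_of_mem J r.2)).some
  let n := Fintype.card T
  let idx : Fin n → T := (Fintype.equivFin T).symm
  let L₁ : Fin n → Loc (c := c) F σ j := fun r => (L (idx r).1).pull (f (idx r))
  let U : (D.obj j).left.Opens := ⨆ r, ⟨Set.range (L₁ r).e.left, (L₁ r).e.left.isOpenMap.isOpen_range⟩
  obtain ⟨k, g, hk⟩ := exists_map_eq_top D₀ _ hc (i := j) U (eq_top_iff.2 fun y _ => by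
    have hy : y ∈ (⊤ : Set c.pt.left) := trivial
    rw [← hT] at hy
    obtain ⟨r, hr, hy⟩ := Set.mem_iUnion₂.1 hy
    refine Opens.mem_iSup.2 ⟨Fintype.equivFin T ⟨r, hr⟩, ?_⟩
    have key : ∀ r' : T, r' = ⟨r, hr⟩ → y ∈ ((L r'.1).pull (f r')).cov := by
      rintro r' rfl
      exact (L r).cov_pull (f ⟨r, hr⟩) hy
    exact key _ (Equiv.symm_apply_apply _ _))
  refine ⟨k, n, fun r => (L₁ r).pull g, fun z => ?_⟩
  obtain ⟨r, o, ho⟩ := Opens.mem_iSup.1 (hk.ge (Set.mem_univ z))
  obtain ⟨x, -, hx⟩ := exists_fib_point (L₁ r).e (D.map g) o z ho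
  exact ⟨r, x, hx⟩

include hc in
/-- Every section on the limit comes from a stage. -/
theorem exists_stage_section :
    ∃ (j : I) (s : (pe F).obj (op (D.obj j))), (pe F).map (c.π.app j).op s = σ := by
  classical
  obtain ⟨j, n, L, hL⟩ := exists_family (F := F) (σ := σ) hc
  have hP : ∀ r r' : Fin n, ∃ (k : I) (f : k ⟶ j), ∀ (W : X.ProEt) (a : W ⟶ fib (L r).e (L r').e)
      (b : W ⟶ D.obj k), a ≫ fib₁ _ _ ≫ (L r).e = b ≫ D.map f →
      (pe F).map a.op ((pe F).map (fib₁ _ _).op (L r).s - (pe F).map (fib₂ _ _).op (L r').s) = 0 := by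
    intro r r'
    haveI : QuasiCompact (L r').e.left := quasiCompact_of_compactSpace _
    haveI : QuasiCompact (pullback.fst (L r).e.left (L r').e.left) := MorphismProperty.pullback_fst _ _ inferInstance
    haveI : CompactSpace (fib (L r).e (L r').e).left :=
      QuasiCompact.compactSpace_of_compactSpace (pullback.fst (L r).e.left (L r').e.left)
    refine exists_stage_zero F hc _ _ fun W a b h => ?_
    rw [map_sub, sub_eq_zero, ← Functor.map_comp_apply, ← Functor.map_comp_apply, ← op_comp, ← op_comp,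
      (L r).eq W _ b ((Category.assoc _ _ _).trans h),
      (L r').eq W _ b (by rw [Category.assoc, ← fib_condition]; exact h)]
  choose K f hK using fun p : Fin n × Fin n => hP p.1 p.2
  obtain ⟨k, g₀, hk⟩ : ∃ (k : I) (g : k ⟶ j), ∀ p, ∃ a : k ⟶ K p, a ≫ f p = g := by
    let Hs : Finset (Σ' (X' Y' : I) (_ : X' ∈ insert j (Finset.univ.image K)) (_ : Y' ∈ insert j (Finset.univ.image K)), X' ⟶ Y') :=
      Finset.univ.image fun p : Fin n × Fin n => ⟨K p, j, by simp, by simp, f p⟩
    refine ⟨IsCofiltered.inf (insert j (Finset.univ.image K)) Hs, IsCofiltered.infTo _ Hs (X := j) (by simp), fun p => ?_⟩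
    exact ⟨IsCofiltered.infTo _ Hs (X := K p) (by simp), IsCofiltered.infTo_commutes _ _ _ _
      (Finset.mem_image_of_mem _ (Finset.mem_univ p))⟩
  let L' : ULift.{u} (Fin n) → Loc (c := c) F σ k := fun r => (L r.down).pull g₀
  have hL' : ∀ z : (D.obj k).left, ∃ r, z ∈ Set.range (L' r).e.left := fun z => by
    obtain ⟨r, o, ho⟩ := hL ((D.map g₀).left z)
    obtain ⟨x, -, hx⟩ := exists_fib_point (L r).e (D.map g₀) o z ho
    exact ⟨⟨r⟩, x, hx⟩
  haveI : ∀ r, QuasiCompact (L' r).e.left := fun r => quasiCompact_of_compactSpace _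
  let 𝒰 : Scheme.Cover.{u} (Scheme.precoverage @Etale) (D.obj k).left :=
    Scheme.Cover.mkOfCovers _ (fun r => (L' r).O.left) (fun r => (L' r).e.left) (fun z => (hL' z)) fun r => (L' r).et
  haveI : Finite 𝒰.I₀ := inferInstanceAs (Finite (ULift.{u} (Fin n)))
  haveI : ∀ r, QuasiCompact (𝒰.f r) := fun r => inferInstanceAs (QuasiCompact (L' r).e.left)
  have hS := cover_mem (U := D.obj k) (fun r => (L' r).O) (fun r => (L' r).e)
    (QuasiCompactCover.of_finite (𝒰 := 𝒰))
    fun z => hL' z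
  have hsh := ((isSheaf_iff_isSheaf_of_type _ _).1
    ((Presheaf.isSheaf_iff_isSheaf_forget _ (pe F) (forget AddCommGrpCat.{u + 1})).1
      ((ProEtS.epsPull X).obj F).property)) _ hS
  rw [← Presieve.isSheafFor_iff_generate] at hsh
  obtain ⟨s, hs, -⟩ := (Presieve.isSheafFor_arrows_iff _ _).1 hsh (fun r => (L' r).s) (fun r r' Z a b hab => by
    show (pe F).map a.op (L' r).s = (pe F).map b.op (L' r').s
    obtain ⟨m, hm⟩ := hk (r.down, r'.down)
    have h1 : (a ≫ fib₁ _ _) ≫ (L r.down).e = (b ≫ fib₁ _ _) ≫ (L r'.down).e := by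
      rw [Category.assoc, Category.assoc, fib_condition, fib_condition, ← Category.assoc, ← Category.assoc]
      exact congrArg (· ≫ D.map g₀) hab
    have := hK (r.down, r'.down) Z (fibLift _ _ h1) ((a ≫ fib₂ _ _) ≫ D.map m) (by
      rw [← Category.assoc, fibLift₁, Category.assoc, fib_condition, Category.assoc, Category.assoc,
        ← D.map_comp, hm])
    rw [map_sub, sub_eq_zero, ← Functor.map_comp_apply, ← Functor.map_comp_apply, ← op_comp, ← op_comp,
      fibLift₁, fibLift₂, op_comp, op_comp, Functor.map_comp_apply, Functor.map_comp_apply] at this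
    exact this)
  refine ⟨k, s, sub_eq_zero.1 (eq_zero_of_pZero F _ fun y => ?_)⟩
  obtain ⟨r, o, ho⟩ := hL' ((c.π.app k).left y)
  obtain ⟨z, -, hz⟩ := exists_fib_point (L' r).e (c.π.app k) o y ho
  rw [← hz]
  refine (pZero_map F _ (fib₂ (L' r).e (c.π.app k)) z).1 ?_
  have h0 : (pe F).map (fib₂ (L' r).e (c.π.app k)).op ((show (pe F).obj (op c.pt) from (pe F).map (c.π.app k).op s) - σ) = 0 := by
    rw [map_sub, sub_eq_zero, ← Functor.map_comp_apply, ← op_comp, ← fib_condition, op_comp,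
      Functor.map_comp_apply]
    refine (congrArg _ (hs r)).trans ?_
    exact (L' r).eq _ _ _ (fib_condition _ _)
  rw [h0]
  exact Opens.mem_sSup.2 ⟨⊤, map_zero _, trivial⟩

end Groth.Agent.ProEtEps19
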