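import Groth.Agent.Lib.ProEtEps19.LocalRep
import Groth.Agent.Lib.ProEtWC.Cont

/-! Sections of the pull-back to the pro-étale site. -/

universe u

open CategoryTheory Limits AlgebraicGeometry Opposite

namespace Groth.Agent.ProEtEps19

set_option backward.isDefEq.respectTransparency false
set_option backward.isDefEq.respectTransparency.types false
set_option linter.style.haveILetI false

open Groth.Agent.ProEtWC

variable {X : Scheme.{u}}

instance flat_eps : RepresentablyFlat (ProEtS.eps X) := flat_of_preservesFiniteLimits _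

instance isFiltered_costructured (W : X.ProEtᵒᵖ) :
    IsFiltered (CostructuredArrow (ProEtS.eps X).op W) :=
  IsFiltered.of_equivalence (structuredArrowOpEquivalence (ProEtS.eps X) W.unop)

instance preservesColimits_costructured (W : X.ProEtᵒᵖ) :
    PreservesColimitsOfShape (CostructuredArrow (ProEtS.eps X).op W) (forget AddCommGrpCat.{u + 1}) := by
  haveI : IsFiltered (AsSmall.{u + 1} (CostructuredArrow (ProEtS.eps X).op W)) :=
    IsFiltered.of_equivalence AsSmall.equiv
  exact preservesColimitsOfShape_of_equiv AsSmall.equiv.symm _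

variable [ProEtS.EpsCont X] (F : EtCoh.Ab X)

/-- `ε⁻¹F` as a presheaf. -/
noncomputable abbrev pe : X.ProEtᵒᵖ ⥤ AddCommGrpCat.{u + 1} := ((ProEtS.epsPull X).obj F).obj

/-- The canonical map from sections of `F`. -/
noncomputable abbrev un (V : X.Etale) : F.obj.obj (op V) →+ (pe F).obj (op ((ProEtS.eps X).obj V)) :=
  (((ProEtS.epsAdj X).unit.app F).hom.app (op V)).hom

/-- The section given by a representative. -/
noncomputable abbrev rep {V : X.Etale} {W : X.ProEt} (a : W ⟶ (ProEtS.eps X).obj V) (t : F.obj.obj (op V)) :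
    (pe F).obj (op W) := (pe F).map a.op (un F V t)

theorem exists_rep {Y : X.ProEt} (σ : (pe F).obj (op Y)) :
    ∃ S ∈ Scheme.ProEt.topology X Y, ∀ ⦃W : X.ProEt⦄ (g : W ⟶ Y), Sieve.arrows S g →
      ∃ (V : X.Etale) (a : W ⟶ (ProEtS.eps X).obj V) (t : F.obj.obj (op V)),
        (pe F).map g.op σ = rep F a t :=
  exists_local_rep (ProEtS.eps X) X.smallEtaleTopology (Scheme.ProEt.topology X) F σ

theorem exists_zero {V : X.Etale} {W : X.ProEt} (a : W ⟶ (ProEtS.eps X).obj V) (t : F.obj.obj (op V))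
    (h : rep F a t = 0) :
    ∃ S ∈ Scheme.ProEt.topology X W, ∀ ⦃W' : X.ProEt⦄ (g : W' ⟶ W), Sieve.arrows S g →
      ∃ (V' : X.Etale) (b : V' ⟶ V) (a' : W' ⟶ (ProEtS.eps X).obj V'),
        a' ≫ (ProEtS.eps X).map b = g ≫ a ∧ F.obj.map b.op t = 0 :=
  exists_local_zero (ProEtS.eps X) X.smallEtaleTopology (Scheme.ProEt.topology X) F a t h

theorem rep_map {V V' : X.Etale} {W : X.ProEt} (a' : W ⟶ (ProEtS.eps X).obj V') (b : V' ⟶ V)
    (t : F.obj.obj (op V)) :
    rep F (a' ≫ (ProEtS.eps X).map b) t = rep F a' (F.obj.map b.op t) := by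
  unfold rep
  rw [op_comp, Functor.map_comp_apply]
  exact congrArg ((pe F).map a'.op) (NatTrans.naturality_apply ((ProEtS.epsAdj X).unit.app F).hom b.op t).symm

theorem map_rep {V : X.Etale} {W W' : X.ProEt} (g : W' ⟶ W) (a : W ⟶ (ProEtS.eps X).obj V)
    (t : F.obj.obj (op V)) : (pe F).map g.op (rep F a t) = rep F (g ≫ a) t := by
  unfold rep
  rw [← Functor.map_comp_apply]
  rfl

theorem eq_of_cover {Y : X.ProEt} {S : Sieve Y} (hS : S ∈ Scheme.ProEt.topology X Y)
    (G : ProEtS.AbP X) (s t : G.obj.obj (op Y))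
    (h : ∀ ⦃W : X.ProEt⦄ (g : W ⟶ Y), Sieve.arrows S g → G.obj.map g.op s = G.obj.map g.op t) : s = t :=
  (((isSheaf_iff_isSheaf_of_type _ _).1
    ((Presheaf.isSheaf_iff_isSheaf_forget _ G.obj (forget AddCommGrpCat.{u + 1})).1 G.property)) S hS).isSeparatedFor.ext
    fun W g hg => h g hg

end Groth.Agent.ProEtEps19
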