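import Groth.Agent.Lib.ProEtEps19.Zero

/-! The unit of the comparison between the étale and the pro-étale site is an isomorphism. -/

universe u

open CategoryTheory Limits AlgebraicGeometry Opposite TopologicalSpace

namespace Groth.Agent.ProEtEps19

set_option backward.isDefEq.respectTransparency false
set_option backward.isDefEq.respectTransparency.types false
set_option linter.style.haveILetI false
set_option maxHeartbeats 1600000

open Groth.Agent.ProEtWC

variable {X : Scheme.{u}} [ProEtS.EpsCont X] (F : EtCoh.Ab X)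

theorem un_map {V V' : X.Etale} (b : V' ⟶ V) (t : F.obj.obj (op V)) :
    (pe F).map ((ProEtS.eps X).map b).op (un F V t) = un F V' (F.obj.map b.op t) :=
  (NatTrans.naturality_apply ((ProEtS.epsAdj X).unit.app F).hom b.op t).symm

theorem map_eq_zero_of_range {V V' : X.Etale} (b : V' ⟶ V) (t : F.obj.obj (op V))
    (h : ∀ x : V'.left, b.left x ∈ eZero F t) : F.obj.map b.op t = 0 := by
  refine eq_zero_of_cover_et F (fun _ : PUnit.{u + 1} => etSub V' (eZero F (F.obj.map b.op t)))
    (fun _ => etSubι _ _) ?_ _ fun _ => map_eZero F _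
  intro x
  exact ⟨⟨⟩, ⟨x, (eZero_map F b t x).2 (h x)⟩, rfl⟩

theorem un_injective (V : X.Etale) : Function.Injective (un F V) := by
  rw [injective_iff_map_eq_zero]
  intro t ht
  have h : rep F (𝟙 ((ProEtS.eps X).obj V)) t = 0 := by
    unfold rep
    rw [op_id, CategoryTheory.Functor.map_id]
    exact ht
  have h' := map_eq_zero_of_range F (𝟙 V) t fun x => (rep_eq_zero_iff F _ t).1 h x
  rwa [op_id, CategoryTheory.Functor.map_id] at h'

theorem exists_etale_lift {U : X.Etale} (σ : (pe F).obj (op ((ProEtS.eps X).obj U))) (x : U.left) :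
    ∃ (V : X.Etale) (b : V ⟶ U) (t : F.obj.obj (op V)),
      x ∈ Set.range b.left ∧ (pe F).map ((ProEtS.eps X).map b).op σ = un F V t := by
  obtain ⟨S, hS, hS'⟩ := exists_rep F σ
  obtain ⟨W, g, w, hg, hw⟩ := exists_point_of_cover hS x
  obtain ⟨V₀, a, t₀, h⟩ := hS' g hg
  let q : W ⟶ (ProEtS.eps X).obj (etProd U V₀) := MorphismProperty.Over.homMk
    (pullback.lift g.left a.left ((MorphismProperty.Over.w g).trans (MorphismProperty.Over.w a).symm)) (by
    show _ ≫ pullback.fst _ _ ≫ U.hom = W.hom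
    rw [pullback.lift_fst_assoc]
    exact MorphismProperty.Over.w g)
  have e₁ : q ≫ (ProEtS.eps X).map (etFst U V₀) = g := MorphismProperty.Over.Hom.ext (pullback.lift_fst _ _ _)
  have e₂ : q ≫ (ProEtS.eps X).map (etSnd U V₀) = a := MorphismProperty.Over.Hom.ext (pullback.lift_snd _ _ _)
  let δ := (pe F).map ((ProEtS.eps X).map (etFst U V₀)).op σ - un F _ (F.obj.map (etSnd U V₀).op t₀)
  have hq : (pe F).map q.op δ = 0 := by
    rw [map_sub, sub_eq_zero, ← Functor.map_comp_apply, ← op_comp, e₁, h, ← un_map,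
      ← Functor.map_comp_apply, ← op_comp, e₂]
  have hp : q.left w ∈ pZero F δ := by
    rw [← pZero_map F δ q w, hq]
    exact Opens.mem_sSup.2 ⟨⊤, map_zero _, trivial⟩
  let O : (etProd U V₀).left.Opens := pZero F δ
  refine ⟨etSub (etProd U V₀) O, etSubι _ O ≫ etFst U V₀,
    F.obj.map (etSubι _ O).op (F.obj.map (etSnd U V₀).op t₀), ⟨⟨q.left w, hp⟩, ?_⟩, ?_⟩
  · show (etFst U V₀).left (q.left w) = x
    rw [← hw]
    exact congr($(congrArg (fun e => CommaMorphism.left (MorphismProperty.Comma.Hom.hom e)) e₁) w)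
  · have hz : (pe F).map ((ProEtS.eps X).map (etSubι (etProd U V₀) O)).op δ = 0 := pZero_map_eq_zero F δ
    rw [map_sub, sub_eq_zero, un_map, ← Functor.map_comp_apply, ← op_comp, ← Functor.map_comp] at hz
    exact hz

theorem un_surjective (U : X.Etale) : Function.Surjective (un F U) := by
  intro σ
  choose V b t hb ht using exists_etale_lift F σ
  have hS : Sieve.ofArrows V b ∈ X.smallEtaleTopology U := by
    have eX : X.smallEtaleTopology =
        (X.smallPretopology (P := EtCoh.etaleMP) (Q := EtCoh.etaleMP)).toGrothendieck :=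
      Scheme.smallGrothendieckTopology_eq_toGrothendieck_smallPretopology X le_rfl
    rw [eX]
    refine (Scheme.mem_toGrothendieck_smallPretopology U _).2 fun v => ?_
    obtain ⟨w, hw⟩ := hb v
    exact ⟨V v, b v, w, Sieve.ofArrows_mk _ _ v, etale_left (b v), hw⟩
  have hc : Presieve.Arrows.Compatible (F.obj ⋙ forget AddCommGrpCat.{u + 1}) b t := by
    intro i j Z gi gj hij
    refine un_injective F Z ?_
    show un F Z (F.obj.map gi.op (t i)) = un F Z (F.obj.map gj.op (t j))
    rw [← un_map, ← un_map, ← ht, ← ht, ← Functor.map_comp_apply, ← Functor.map_comp_apply, ← op_comp,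
      ← op_comp, ← Functor.map_comp, ← Functor.map_comp, hij]
  have hsh := ((isSheaf_iff_isSheaf_of_type _ _).1
    ((Presheaf.isSheaf_iff_isSheaf_forget _ F.obj (forget AddCommGrpCat.{u + 1})).1 F.property)) _ hS
  rw [Sieve.ofArrows, ← Presieve.isSheafFor_iff_generate] at hsh
  obtain ⟨s, hs, -⟩ := (Presieve.isSheafFor_arrows_iff _ _).1 hsh t hc
  refine ⟨s, (sub_eq_zero.1 (eq_zero_of_pZero F _ fun x => ?_)).symm⟩
  obtain ⟨v, hv⟩ := hb x
  rw [← hv]
  refine (pZero_map F _ ((ProEtS.eps X).map (b x)) v).1 ?_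
  have h0 : (pe F).map ((ProEtS.eps X).map (b x)).op (σ - un F U s) = 0 := by
    rw [map_sub, sub_eq_zero, ht, un_map]
    exact congrArg _ (hs x).symm
  rw [h0]
  exact Opens.mem_sSup.2 ⟨⊤, map_zero _, trivial⟩

theorem isIso_unit : IsIso ((ProEtS.epsAdj X).unit.app F) := by
  haveI : ∀ V, IsIso (((ProEtS.epsAdj X).unit.app F).hom.app V) := fun V =>
    (ConcreteCategory.isIso_iff_bijective _).2 ⟨un_injective F V.unop, un_surjective F V.unop⟩
  haveI : IsIso ((ProEtS.epsAdj X).unit.app F).hom := NatIso.isIso_of_isIso_app _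
  exact (isIso_iff_of_reflects_iso _ (sheafToPresheaf X.smallEtaleTopology AddCommGrpCat.{u + 1})).1
    (inferInstanceAs (IsIso ((ProEtS.epsAdj X).unit.app F).hom))

end Groth.Agent.ProEtEps19
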