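import Groth.Agent.Lib.ProEtEps19.Transfer
import Groth.Agent.Lib.ProEtEps19.Unit
import Mathlib.CategoryTheory.Preadditive.Injective.Basic
import Mathlib.CategoryTheory.Adjunction.Limits

/-! Čech exactness of the pull-back of an injective sheaf along an étale map. -/

universe u

open CategoryTheory Limits AlgebraicGeometry Opposite TopologicalSpace

namespace Groth.Agent.ProEtEps19

set_option backward.isDefEq.respectTransparency false
set_option backward.isDefEq.respectTransparency.types false
set_option linter.style.haveILetI false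
set_option maxHeartbeats 800000

variable {X : Scheme.{u}} [ProEtS.EpsCont X] (F : EtCoh.Ab X)

theorem powS_etale {V U : X.Etale} (gE : V ⟶ U) : ∀ n, Etale (powS ((ProEtS.eps X).map gE) n).toBase.left
  | 0 => etale_left gE
  | n + 1 => by
    haveI := powS_etale gE n
    haveI : Etale ((ProEtS.eps X).map gE).left := etale_left gE
    haveI : Etale (pullback.fst (powS ((ProEtS.eps X).map gE) n).toBase.left ((ProEtS.eps X).map gE).left) :=
      MorphismProperty.pullback_fst _ _ ‹_›
    show Etale ((ProEtEps19.fib₁ _ _).left ≫ (powS ((ProEtS.eps X).map gE) n).toBase.left)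
    exact inferInstanceAs (Etale (pullback.fst _ _ ≫ _))

/-- The power as an étale object. -/
noncomputable def powE {V U : X.Etale} (gE : V ⟶ U) (n : ℕ) : X.Etale :=
  haveI : Etale (powS ((ProEtS.eps X).map gE) n).R.hom := by
    haveI := powS_etale gE n
    haveI : Etale U.hom := U.prop
    have : (powS ((ProEtS.eps X).map gE) n).toBase.left ≫ U.hom = (powS ((ProEtS.eps X).map gE) n).R.hom :=
      MorphismProperty.Over.w _
    rw [← this]; infer_instance
  Scheme.Etale.mk (powS ((ProEtS.eps X).map gE) n).R.hom

/-- The power and its étale form. -/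
noncomputable def powEIso {V U : X.Etale} (gE : V ⟶ U) (n : ℕ) :
    (powS ((ProEtS.eps X).map gE) n).R ⟶ (ProEtS.eps X).obj (powE gE n) :=
  MorphismProperty.Over.homMk (𝟙 _) (Category.id_comp _)

/-- The universal tuple on the étale form. -/
noncomputable def powEU {V U : X.Etale} (gE : V ⟶ U) (n : ℕ) : Tup gE n (powE gE n) :=
  ⟨fun k => MorphismProperty.Over.homMk ((powS ((ProEtS.eps X).map gE) n).u.1 k).left
      (MorphismProperty.Over.w ((powS ((ProEtS.eps X).map gE) n).u.1 k)),
    fun k => MorphismProperty.Over.Hom.ext (left_eq ((powS ((ProEtS.eps X).map gE) n).u.2 k) : _)⟩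

theorem powEIso_u {V U : X.Etale} (gE : V ⟶ U) (n : ℕ) (k : Fin (n + 1)) :
    powEIso gE n ≫ (ProEtS.eps X).map ((powEU gE n).1 k) = (powS ((ProEtS.eps X).map gE) n).u.1 k :=
  MorphismProperty.Over.Hom.ext (Category.id_comp _)

/-- A tuple of étale objects as a tuple of pro-étale objects. -/
noncomputable def epsTup {V U T : X.Etale} {gE : V ⟶ U} {n : ℕ} (x : Tup gE n T) :
    Tup ((ProEtS.eps X).map gE) n ((ProEtS.eps X).obj T) :=
  ⟨fun k => (ProEtS.eps X).map (x.1 k), fun k => by rw [← Functor.map_comp, ← Functor.map_comp, x.2 k]⟩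

theorem cechExact_eps [Injective F] {V U : X.Etale} (gE : V ⟶ U) :
    CechExact ((ProEtS.eps X).map gE) (pe F) := by
  intro n c hc
  haveI : Injective F.obj := Injective.injective_of_adjoint (sheafificationAdjunction _ _) F
  let inv : ∀ (m : ℕ) (T : X.Etale) (x : Tup gE m T) (c : Cochain ((ProEtS.eps X).map gE) (pe F) m),
      F.obj.obj (op T) := fun m T x c => (un_surjective F T (c.val _ (epsTup x))).choose
  have hinv : ∀ (m : ℕ) (T : X.Etale) (x : Tup gE m T) (c : Cochain ((ProEtS.eps X).map gE) (pe F) m),
      un F T (inv m T x c) = c.val _ (epsTup x) := fun m T x c => (un_surjective F T _).choose_spec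
  let cE : Cochain gE F.obj (n + 1) :=
    { val := fun T x => inv _ T x c
      nat := fun {T T'} h x => un_injective F T' (by
        rw [← un_map, hinv, hinv, c.nat]
        exact congrArg (c.val _) (Subtype.ext (funext fun k => ((ProEtS.eps X).map_comp _ _).symm))) }
  have hd : ∀ {m : ℕ} (b : Cochain gE F.obj m) (b' : Cochain ((ProEtS.eps X).map gE) (pe F) m),
      (∀ T x, un F T (b.val T x) = b'.val _ (epsTup x)) →
      ∀ T x, un F T (b.d.val T x) = b'.d.val _ (epsTup x) := fun {m} b b' h T x => by
    simp only [Cochain.d, map_sum, map_zsmul]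
    refine Finset.sum_congr rfl fun i _ => congrArg _ ?_
    rw [h]
    rfl
  have hcE : ∀ T x, cE.d.val T x = 0 := fun T x => un_injective F T (by
    rw [map_zero, hd cE c (fun T x => hinv _ T x c), hc])
  obtain ⟨bE, hb⟩ := cechExact_injective.{u + 1} (g := gE) (I := F.obj) n cE hcE
  let b := (powS ((ProEtS.eps X).map gE) n).cochain
    ((pe F).map (powEIso gE n).op (un F _ (bE.val _ (powEU gE n))))
  have hbb : ∀ T x, un F T (bE.val T x) = b.val _ (epsTup x) := fun T x => by
    show _ = (pe F).map _ _
    rw [← Functor.map_comp_apply, ← op_comp]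
    let l := (powS ((ProEtS.eps X).map gE) n).lift (epsTup x) ≫ powEIso gE n
    let h : T ⟶ powE gE n := MorphismProperty.Over.homMk l.left (MorphismProperty.Over.w l)
    have hl : l = (ProEtS.eps X).map h := MorphismProperty.Over.Hom.ext rfl
    have hx : (powEU gE n).comp h = x := Subtype.ext (funext fun k => MorphismProperty.Over.Hom.ext (by
      show l.left ≫ _ = _
      have e1 : l ≫ (ProEtS.eps X).map ((powEU gE n).1 k) = (ProEtS.eps X).map (x.1 k) := by
        rw [Category.assoc, powEIso_u]
        exact congrFun (congrArg Subtype.val ((powS ((ProEtS.eps X).map gE) n).fac (epsTup x))) k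
      exact left_eq e1))
    rw [show (powS ((ProEtS.eps X).map gE) n).lift (epsTup x) ≫ powEIso gE n = _ from hl, un_map, bE.nat, hx]
  refine ⟨b, fun T x => ?_⟩
  let p := powS ((ProEtS.eps X).map gE) (n + 1)
  have hu : p.u = (epsTup (powEU gE (n + 1))).comp (powEIso gE (n + 1)) :=
    Subtype.ext (funext fun k => (powEIso_u gE (n + 1) k).symm)
  rw [p.eq_cochain b.d T x, p.eq_cochain c T x]
  refine congrArg _ ?_
  rw [hu, ← b.d.nat, ← c.nat, ← hd bE b hbb, hb]
  exact congrArg _ (hinv _ _ _ c)

end Groth.Agent.ProEtEps19
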