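import Groth.Agent.Lib.ProEtEps19.BasCover

/-! Lifting sections over limits of étale objects. -/

universe u

open CategoryTheory Limits AlgebraicGeometry Opposite TopologicalSpace

namespace Groth.Agent.ProEtEps19

set_option backward.isDefEq.respectTransparency false
set_option backward.isDefEq.respectTransparency.types false
set_option linter.style.haveILetI false
set_option linter.unusedSectionVars false
set_option maxHeartbeats 800000

open Groth.Agent.ProEtWC

variable {X : Scheme.{u}} [ProEtS.EpsCont X]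

theorem eq_of_openCover {T : X.ProEt} {ι : Type u} (O : ι → T.left.Opens) (hO : iSup O = ⊤)
    (G : ProEtS.AbP X) (s t : G.obj.obj (op T))
    (h : ∀ i, G.obj.map (overHom T (O i).ι).op s = G.obj.map (overHom T (O i).ι).op t) : s = t := by
  refine eq_of_cover (opens_cover_mem T O hO) G s t fun W q hq => ?_
  obtain ⟨W', q', g', hg', rfl⟩ := hq
  obtain ⟨i⟩ := hg'
  rw [op_comp, Functor.map_comp_apply, Functor.map_comp_apply, h]

theorem glue_two {T A B : X.ProEt} (a : A ⟶ T) (b : B ⟶ T) [IsOpenImmersion a.left] [IsOpenImmersion b.left]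
    (hcov : ∀ x : T.left, x ∈ Set.range a.left ∨ x ∈ Set.range b.left) (G : ProEtS.AbP X)
    (s : G.obj.obj (op A)) (t : G.obj.obj (op B))
    (h : G.obj.map (fib₁ a b).op s = G.obj.map (fib₂ a b).op t) :
    ∃ r : G.obj.obj (op T), G.obj.map a.op r = s ∧ G.obj.map b.op r = t := by
  let O : ULift.{u} Bool → T.left.Opens :=
    fun i => bif i.down then a.left.opensRange else b.left.opensRange
  have hO : iSup O = ⊤ := top_unique fun x _ => by
    rcases hcov x with hx | hx
    · exact Opens.mem_iSup.2 ⟨⟨true⟩, hx⟩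
    · exact Opens.mem_iSup.2 ⟨⟨false⟩, hx⟩
  let la : overObj T (O ⟨true⟩).ι ⟶ A := MorphismProperty.Over.homMk
    (IsOpenImmersion.lift a.left (O ⟨true⟩).ι (Scheme.Opens.range_ι _).le) (by
      show _ ≫ A.hom = _ ≫ T.hom
      rw [← MorphismProperty.Over.w a, ← Category.assoc, IsOpenImmersion.lift_fac])
  let lb : overObj T (O ⟨false⟩).ι ⟶ B := MorphismProperty.Over.homMk
    (IsOpenImmersion.lift b.left (O ⟨false⟩).ι (Scheme.Opens.range_ι _).le) (by
      show _ ≫ B.hom = _ ≫ T.hom
      rw [← MorphismProperty.Over.w b, ← Category.assoc, IsOpenImmersion.lift_fac])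
  have hla : la ≫ a = overHom T (O ⟨true⟩).ι :=
    MorphismProperty.Over.Hom.ext (IsOpenImmersion.lift_fac _ _ _)
  have hlb : lb ≫ b = overHom T (O ⟨false⟩).ι :=
    MorphismProperty.Over.Hom.ext (IsOpenImmersion.lift_fac _ _ _)
  let val : ∀ i, G.obj.obj (op (overObj T (O i).ι)) := fun i =>
    match i with
    | ⟨true⟩ => G.obj.map la.op s
    | ⟨false⟩ => G.obj.map lb.op t
  haveI : Mono a.left := inferInstance
  haveI : Mono b.left := inferInstance
  have key : ∀ (Z : X.ProEt) (p : Z ⟶ A) (q : Z ⟶ B), p ≫ a = q ≫ b →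
      G.obj.map p.op s = G.obj.map q.op t := fun Z p q e => by
    rw [← fibLift₁ p q e]
    conv_rhs => rw [← fibLift₂ p q e]
    rw [op_comp, op_comp, Functor.map_comp_apply, Functor.map_comp_apply, h]
  have hc : Presieve.Arrows.Compatible (G.obj ⋙ forget AddCommGrpCat.{u + 1})
      (fun i => overHom T (O i).ι) val := by
    rintro ⟨i⟩ ⟨j⟩ Z gi gj hij
    cases i <;> cases j
    · show G.obj.map gi.op (G.obj.map lb.op t) = G.obj.map gj.op (G.obj.map lb.op t)
      rw [← Functor.map_comp_apply, ← Functor.map_comp_apply, ← op_comp, ← op_comp]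
      refine congrArg (fun q => G.obj.map (Quiver.Hom.op q) t) ?_
      refine MorphismProperty.Over.Hom.ext ((cancel_mono b.left).1 (left_eq (f := (gi ≫ lb) ≫ b)
        (g := (gj ≫ lb) ≫ b) ?_))
      rw [Category.assoc, Category.assoc, hlb, hij]
    · show G.obj.map gi.op (G.obj.map lb.op t) = G.obj.map gj.op (G.obj.map la.op s)
      rw [← Functor.map_comp_apply, ← Functor.map_comp_apply, ← op_comp, ← op_comp]
      refine (key Z _ _ ?_).symm
      rw [Category.assoc, Category.assoc, hlb, hla, hij]
    · show G.obj.map gi.op (G.obj.map la.op s) = G.obj.map gj.op (G.obj.map lb.op t)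
      rw [← Functor.map_comp_apply, ← Functor.map_comp_apply, ← op_comp, ← op_comp]
      refine key Z _ _ ?_
      rw [Category.assoc, Category.assoc, hlb, hla, hij]
    · show G.obj.map gi.op (G.obj.map la.op s) = G.obj.map gj.op (G.obj.map la.op s)
      rw [← Functor.map_comp_apply, ← Functor.map_comp_apply, ← op_comp, ← op_comp]
      refine congrArg (fun q => G.obj.map (Quiver.Hom.op q) s) ?_
      refine MorphismProperty.Over.Hom.ext ((cancel_mono a.left).1 (left_eq (f := (gi ≫ la) ≫ a)
        (g := (gj ≫ la) ≫ a) ?_))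
      rw [Category.assoc, Category.assoc, hla, hij]
  have hsh := ((isSheaf_iff_isSheaf_of_type _ _).1
    ((Presheaf.isSheaf_iff_isSheaf_forget _ G.obj (forget AddCommGrpCat.{u + 1})).1 G.property)) _
      (opens_cover_mem T O hO)
  rw [← Presieve.isSheafFor_iff_generate] at hsh
  obtain ⟨r, hr, -⟩ := (Presieve.isSheafFor_arrows_iff _ _).1 hsh val hc
  have hrt : G.obj.map (overHom T (O ⟨true⟩).ι).op r = G.obj.map la.op s := hr ⟨true⟩
  have hrf : G.obj.map (overHom T (O ⟨false⟩).ι).op r = G.obj.map lb.op t := hr ⟨false⟩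
  let ka : A ⟶ overObj T (O ⟨true⟩).ι := MorphismProperty.Over.homMk
    (IsOpenImmersion.lift (O ⟨true⟩).ι a.left (by rintro _ ⟨w, rfl⟩; erw [Scheme.Opens.range_ι]; exact ⟨w, rfl⟩)) (by
      show _ ≫ _ ≫ T.hom = A.hom
      rw [IsOpenImmersion.lift_fac_assoc]; exact MorphismProperty.Over.w a)
  have hka : ka ≫ overHom T (O ⟨true⟩).ι = a :=
    MorphismProperty.Over.Hom.ext (IsOpenImmersion.lift_fac _ _ _)
  have hka' : ka ≫ la = 𝟙 A := by
    refine MorphismProperty.Over.Hom.ext ((cancel_mono a.left).1 (left_eq (f := (ka ≫ la) ≫ a)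
      (g := 𝟙 A ≫ a) ?_))
    rw [Category.assoc, hla, hka, Category.id_comp]
  let kb : B ⟶ overObj T (O ⟨false⟩).ι := MorphismProperty.Over.homMk
    (IsOpenImmersion.lift (O ⟨false⟩).ι b.left (by rintro _ ⟨w, rfl⟩; erw [Scheme.Opens.range_ι]; exact ⟨w, rfl⟩)) (by
      show _ ≫ _ ≫ T.hom = B.hom
      rw [IsOpenImmersion.lift_fac_assoc]; exact MorphismProperty.Over.w b)
  have hkb : kb ≫ overHom T (O ⟨false⟩).ι = b :=
    MorphismProperty.Over.Hom.ext (IsOpenImmersion.lift_fac _ _ _)
  have hkb' : kb ≫ lb = 𝟙 B := by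
    refine MorphismProperty.Over.Hom.ext ((cancel_mono b.left).1 (left_eq (f := (kb ≫ lb) ≫ b)
      (g := 𝟙 B ≫ b) ?_))
    rw [Category.assoc, hlb, hkb, Category.id_comp]
  refine ⟨r, ?_, ?_⟩
  · rw [← hka, op_comp, Functor.map_comp_apply, hrt, ← Functor.map_comp_apply, ← op_comp, hka']
    simp
  · rw [← hkb, op_comp, Functor.map_comp_apply, hrf, ← Functor.map_comp_apply, ← op_comp, hkb']
    simp

variable {S : ShortComplex (ProEtS.AbP X)} (hS : S.ShortExact) (hG : Acyc S.X₁) (hF : Fl S.X₁)

include hS hG hF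

theorem surjective_limEt {T : X.ProEt} (hT : LimEt T) : Function.Surjective (S.g.hom.app (op T)) := by
  classical
  intro x
  haveI := hT.compactSpace
  haveI := hT.quasiSeparatedSpace
  choose P h hoi hmem hbas using hT.exists_bas_nbhd
  haveI := hoi
  obtain ⟨s, hs⟩ := isCompact_univ.elim_finite_subcover (fun y => Set.range (h y).left)
    (fun y => (h y).left.isOpenEmbedding.isOpen_range) (fun y _ => Set.mem_iUnion.2 ⟨y, hmem y⟩)
  suffices H : ∀ (t : Finset T.left) (T' : X.ProEt) (k : T' ⟶ T), IsOpenImmersion k.left →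
      Set.range k.left = ⋃ y ∈ t, Set.range (h y).left →
      ∃ z, S.g.hom.app (op T') z = S.X₃.obj.map k.op x by
    haveI : IsOpenImmersion (𝟙 T : T ⟶ T).left := inferInstanceAs (IsOpenImmersion (𝟙 T.left))
    obtain ⟨z, hz⟩ := H s T (𝟙 T) inferInstance
      ((Set.range_id : Set.range (id : T.left → T.left) = _).trans (Set.univ_subset_iff.1 hs).symm)
    exact ⟨z, by simpa using hz⟩
  intro t
  induction t using Finset.induction_on with
  | empty =>
    intro T' k _ hk
    have hE : IsEmpty T'.left := ⟨fun z => by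
      have hz : k.left z ∈ Set.range k.left := ⟨z, rfl⟩
      rw [hk] at hz
      simp at hz⟩
    exact ⟨0, eq_of_openCover (T := T') (fun i : PEmpty.{u + 1} => i.elim)
      (top_unique fun z _ => hE.elim z) S.X₃ _ _ fun i => i.elim⟩
  | @insert y t _ ih =>
    intro T' k hko hk
    rw [Finset.set_biUnion_insert] at hk
    have hPc : IsCompact (⋃ z ∈ t, Set.range (h z).left) := t.isCompact_biUnion fun z _ =>
      haveI := (hbas z).isAffine
      isCompact_range (h z).left.continuous
    let O : T'.left.Opens := k.left ⁻¹ᵁ (⨆ z ∈ t, (h z).left.opensRange)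
    let a : overObj T' O.ι ⟶ T' := overHom T' O.ι
    haveI : IsOpenImmersion a.left := inferInstanceAs (IsOpenImmersion O.ι)
    have hA : Set.range (a ≫ k).left = ⋃ z ∈ t, Set.range (h z).left := by
      show Set.range (fun w => k.left (O.ι w)) = _
      rw [Set.range_comp' k.left O.ι, Scheme.Opens.range_ι]
      have hOset : (O : Set T'.left) = k.left ⁻¹' (⋃ z ∈ t, Set.range (h z).left) := by
        simp [O, Scheme.Hom.coe_opensRange]
      rw [hOset, Set.image_preimage_eq_inter_range, hk]
      exact Set.inter_eq_left.2 Set.subset_union_right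
    haveI : IsOpenImmersion (a ≫ k).left := inferInstanceAs (IsOpenImmersion (O.ι ≫ k.left))
    haveI : CompactSpace (overObj T' O.ι).left := by
      refine ⟨(a ≫ k).left.isOpenEmbedding.isInducing.isCompact_iff.2 ?_⟩
      rw [Set.image_univ, hA]
      exact hPc
    obtain ⟨za, hza⟩ := ih (overObj T' O.ι) (a ≫ k) inferInstance hA
    haveI := (hbas y).isAffine
    let b : P y ⟶ T' := MorphismProperty.Over.homMk
      (IsOpenImmersion.lift k.left (h y).left (by rw [hk]; exact Set.subset_union_left)) (by
        show _ ≫ T'.hom = _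
        rw [← MorphismProperty.Over.w k, ← Category.assoc, IsOpenImmersion.lift_fac]
        exact MorphismProperty.Over.w (h y))
    have hbk : b ≫ k = h y := MorphismProperty.Over.Hom.ext (IsOpenImmersion.lift_fac _ _ _)
    haveI : IsOpenImmersion b.left := by
      haveI : IsOpenImmersion (b.left ≫ k.left) := by
        rw [show b.left ≫ k.left = (h y).left from IsOpenImmersion.lift_fac _ _ _]; infer_instance
      exact IsOpenImmersion.of_comp b.left k.left
    obtain ⟨zb, hzb⟩ := surjective_bas hS hG (hbas y) (S.X₃.obj.map (h y).op x)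
    haveI : QuasiSeparatedSpace T'.left := k.left.isOpenEmbedding.quasiSeparatedSpace
    haveI : QuasiCompact b.left := inferInstance
    haveI : QuasiCompact (pullback.fst a.left b.left) := MorphismProperty.pullback_fst _ _ ‹_›
    haveI : CompactSpace (fib a b).left :=
      QuasiCompact.compactSpace_of_compactSpace (pullback.fst a.left b.left)
    haveI : IsOpenImmersion (fib₂ a b).left :=
      inferInstanceAs (IsOpenImmersion (pullback.snd a.left b.left))
    have hB : LimEt (P y) := hT.of_isOpenImmersion (h y)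
    have hC : LimEt (fib a b) := hB.of_isOpenImmersion (fib₂ a b)
    obtain ⟨w, hw⟩ := (ses_app hS (op (fib a b))).2
      (S.X₂.obj.map (fib₁ a b).op za - S.X₂.obj.map (fib₂ a b).op zb) (by
        rw [map_sub, NatTrans.naturality_apply, NatTrans.naturality_apply, hza, hzb, sub_eq_zero,
          ← Functor.map_comp_apply, ← Functor.map_comp_apply, ← op_comp, ← op_comp, ← hbk,
          ← Category.assoc, ← Category.assoc, fib_condition])
    obtain ⟨w', hw'⟩ := hF (fib₂ a b) hB hC inferInstance w
    let zb' := zb + S.f.hom.app (op (P y)) w'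
    obtain ⟨r, hra, hrb⟩ := glue_two a b (fun z => by
      have hz : k.left z ∈ Set.range k.left := ⟨z, rfl⟩
      rw [hk] at hz
      rcases hz with ⟨w, hw⟩ | hz
      · right
        refine ⟨w, k.left.isOpenEmbedding.injective ?_⟩
        rw [← hw]
        exact congr($(left_eq hbk) w)
      · left
        refine ⟨⟨z, ?_⟩, rfl⟩
        show k.left z ∈ (⨆ z ∈ t, (h z).left.opensRange : T.left.Opens)
        simpa using hz) S.X₂ za zb' (by
      show _ = S.X₂.obj.map (fib₂ a b).op (zb + _)
      rw [map_add, ← NatTrans.naturality_apply, hw', hw, add_sub_cancel])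
    refine ⟨r, eq_of_openCover (T := T')
      (fun i : ULift.{u} Bool => bif i.down then O else b.left.opensRange)
      (top_unique fun z _ => ?_) S.X₃ _ _ ?_⟩
    · have hz : k.left z ∈ Set.range k.left := ⟨z, rfl⟩
      rw [hk] at hz
      rcases hz with ⟨w, hw⟩ | hz
      · refine Opens.mem_iSup.2 ⟨⟨false⟩, w, k.left.isOpenEmbedding.injective ?_⟩
        rw [← hw]
        exact congr($(left_eq hbk) w)
      · refine Opens.mem_iSup.2 ⟨⟨true⟩, ?_⟩
        show k.left z ∈ (⨆ z ∈ t, (h z).left.opensRange : T.left.Opens)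
        simpa using hz
    · rintro ⟨i⟩
      cases i
      · let l : overObj T' b.left.opensRange.ι ⟶ P y := MorphismProperty.Over.homMk
          (IsOpenImmersion.lift b.left b.left.opensRange.ι (Scheme.Opens.range_ι _).le) (by
            show _ ≫ (P y).hom = _ ≫ T'.hom
            rw [← MorphismProperty.Over.w b, ← Category.assoc, IsOpenImmersion.lift_fac])
        have hl : l ≫ b = overHom T' b.left.opensRange.ι :=
          MorphismProperty.Over.Hom.ext (IsOpenImmersion.lift_fac _ _ _)
        show S.X₃.obj.map (overHom T' b.left.opensRange.ι).op _ =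
          S.X₃.obj.map (overHom T' b.left.opensRange.ι).op _
        rw [← hl, op_comp, Functor.map_comp_apply, Functor.map_comp_apply]
        refine congrArg (S.X₃.obj.map l.op) ?_
        rw [← NatTrans.naturality_apply, hrb]
        show S.g.hom.app (op (P y)) (zb + _) = _
        have h0 : S.g.hom.app (op (P y)) (S.f.hom.app (op (P y)) w') = 0 := by
          rw [← ConcreteCategory.comp_apply, ← NatTrans.comp_app,
            show S.f.hom ≫ S.g.hom = 0 from congrArg (fun e => e.hom) S.zero]
          rfl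
        rw [map_add, h0, add_zero, hzb, ← hbk, op_comp, Functor.map_comp_apply]
      · show S.X₃.obj.map a.op _ = S.X₃.obj.map a.op _
        rw [← NatTrans.naturality_apply, hra, hza, op_comp, Functor.map_comp_apply]

theorem fl_quotient [Injective S.X₂] : Fl S.X₃ := by
  intro T T' k hT hT' hk x
  obtain ⟨y, rfl⟩ := surjective_limEt hS hG hF hT' x
  obtain ⟨z, rfl⟩ := fl_injective S.X₂ k hT hT' hk y
  exact ⟨S.g.hom.app (op T) z, (NatTrans.naturality_apply S.g.hom k.op z).symm⟩

end Groth.Agent.ProEtEps19
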