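import Groth.Agent.Lib.ProEtEps19.Compare
import Groth.Agent.Lib.EtStalk.Flasque
import Mathlib.AlgebraicGeometry.AffineTransitionLimit

/-! Limits of quasi-compact quasi-separated étale objects in the pro-étale site. -/

universe u

open CategoryTheory Limits AlgebraicGeometry Opposite TopologicalSpace

namespace Groth.Agent.ProEtEps19

set_option backward.isDefEq.respectTransparency false
set_option backward.isDefEq.respectTransparency.types false
set_option linter.style.haveILetI false
set_option linter.unusedSectionVars false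
set_option maxHeartbeats 800000

open Groth.Agent.ProEtWC

variable {X : Scheme.{u}}

/-- Cofiltered limits of quasi-compact quasi-separated étale objects. -/
inductive LimEt : X.ProEt → Prop
  | mk {I : Type u} [SmallCategory I] [IsCofiltered I] (D : I ⥤ X.ProEt)
      [∀ (i j : I) (a : i ⟶ j), IsAffineHom (D.map a).left]
      [∀ i, CompactSpace (D.obj i).left] [∀ i, QuasiSeparatedSpace (D.obj i).left]
      (het : ∀ i, Etale (D.obj i).hom) (c : Cone D)
      (hc : IsLimit ((toSch X).mapCone c)) : LimEt c.pt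

section Stage

variable {I : Type u} [SmallCategory I] [IsCofiltered I] {D : I ⥤ X.ProEt}
  [∀ (i j : I) (a : i ⟶ j), IsAffineHom (D.map a).left]
  [∀ i, QuasiSeparatedSpace (D.obj i).left]
  (het : ∀ i, Etale (D.obj i).hom) (c : Cone D) (hc : IsLimit ((toSch X).mapCone c))
  (i : I) (O : (D.obj i).left.Opens)

/-- The inclusion of an open subobject of a stage. -/
noncomputable abbrev opnHom : overObj (D.obj i) O.ι ⟶ D.obj i := overHom (D.obj i) O.ι

variable {T' : X.ProEt} (h : T' ⟶ c.pt) [IsOpenImmersion h.left]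
  (hO : (c.π.app i).left ⁻¹ᵁ O = h.left.opensRange)

include hO in
theorem exists_opnLift :
    ∃ q : T' ⟶ overObj (D.obj i) O.ι,
      IsPullback h.left q.left (c.π.app i).left (opnHom i O).left := by
  have hle : Set.range (h.left ≫ (c.π.app i).left) ⊆ Set.range O.ι := by
    rintro _ ⟨z, rfl⟩
    rw [Scheme.Opens.range_ι]
    have hz : h.left z ∈ h.left.opensRange := ⟨z, rfl⟩
    rw [← hO] at hz
    exact hz
  let q0 : T'.left ⟶ O.toScheme := IsOpenImmersion.lift O.ι (h.left ≫ (c.π.app i).left) hle
  have hq0 : q0 ≫ O.ι = h.left ≫ (c.π.app i).left := IsOpenImmersion.lift_fac _ _ _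
  refine ⟨MorphismProperty.Over.homMk q0 ?_, ?_⟩
  · show q0 ≫ O.ι ≫ (D.obj i).hom = T'.hom
    rw [← Category.assoc, hq0, Category.assoc]
    exact (congrArg (h.left ≫ ·) (MorphismProperty.Over.w (c.π.app i))).trans (MorphismProperty.Over.w h)
  · refine (IsOpenImmersion.isPullback q0 h.left O.ι (c.π.app i).left hq0.symm ?_).flip
    rw [Scheme.Opens.opensRange_ι, hO]

theorem quasiSeparated_bcSys (a : Over i) :
    QuasiSeparatedSpace ((bcSys (opnHom i O)).obj a).left :=
  ((pullback.fst (D.map a.hom).left O.ι).isOpenEmbedding).quasiSeparatedSpace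

theorem compact_bcSys (hOc : IsCompact (O : Set (D.obj i).left))
    [∀ i, CompactSpace (D.obj i).left] (a : Over i) :
    CompactSpace ((bcSys (opnHom i O)).obj a).left := by
  haveI : CompactSpace O.toScheme := isCompact_iff_compactSpace.1 hOc
  haveI : QuasiCompact (pullback.fst (D.map a.hom).left O.ι) :=
    MorphismProperty.pullback_fst _ _ inferInstance
  exact QuasiCompact.compactSpace_of_compactSpace (pullback.fst (D.map a.hom).left O.ι)

theorem isAffine_bcSys (hOa : IsAffineOpen O) (a : Over i) :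
    IsAffine ((bcSys (opnHom i O)).obj a).left := by
  haveI : IsAffine O.toScheme := hOa
  haveI : IsAffineHom (pullback.snd (D.map a.hom).left O.ι) :=
    MorphismProperty.pullback_snd _ _ inferInstance
  exact isAffine_of_isAffineHom (pullback.snd (D.map a.hom).left O.ι)

instance isAffineHom_bcSys (a b : Over i) (m : a ⟶ b) :
    IsAffineHom ((bcSys (opnHom i O)).map m).left := by
  let p := (bcSys (opnHom i O)).map m
  haveI : IsAffineHom (pullback.snd (D.map a.hom).left O.ι) :=
    MorphismProperty.pullback_snd _ _ inferInstance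
  haveI : IsAffineHom (pullback.snd (D.map b.hom).left O.ι) :=
    MorphismProperty.pullback_snd _ _ inferInstance
  haveI : IsAffineHom (p.left ≫ pullback.snd (D.map b.hom).left O.ι) := by
    have e : p.left ≫ pullback.snd (D.map b.hom).left O.ι = pullback.snd (D.map a.hom).left O.ι :=
      pullback.lift_snd _ _ _
    rw [e]; infer_instance
  exact MorphismProperty.of_postcomp (W := @IsAffineHom) (W' := @IsSeparated) p.left
    (pullback.snd (D.map b.hom).left O.ι) inferInstance ‹_›

include het in
theorem etale_bcSys (a : Over i) : Etale ((bcSys (opnHom i O)).obj a).hom := by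
  haveI := het a.left
  haveI : Etale (pullback.fst (D.map a.hom).left O.ι) := MorphismProperty.pullback_fst _ _ inferInstance
  exact inferInstanceAs (Etale (pullback.fst (D.map a.hom).left O.ι ≫ (D.obj a.left).hom))

end Stage

/-- An open subobject of a limit is a limit. -/
theorem LimEt.of_isOpenImmersion {T : X.ProEt} (hT : LimEt T) {T' : X.ProEt} (h : T' ⟶ T)
    [IsOpenImmersion h.left] [CompactSpace T'.left] : LimEt T' := by
  obtain @⟨I, _, _, D, _, _, _, het, c, hc⟩ := hT
  let D₀ := D ⋙ toSch X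
  haveI : ∀ {i j : I} (b : i ⟶ j), IsAffineHom (D₀.map b) := fun {i j} b =>
    inferInstanceAs (IsAffineHom (D.map b).left)
  obtain ⟨i, O, hOc, hO⟩ := exists_preimage_eq D₀ ((toSch X).mapCone c) hc h.left.opensRange
    (isCompact_range h.left.continuous)
  obtain ⟨q, hq⟩ := exists_opnLift c i O h hO
  haveI := quasiSeparated_bcSys (D := D) i O
  haveI := compact_bcSys (D := D) i O hOc
  exact LimEt.mk (bcSys (opnHom i O)) (etale_bcSys het i O) (bcsCone c (opnHom i O) h q hq)
    (isLimitBcsCone c (opnHom i O) h q hq hc)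

theorem LimEt.compactSpace {T : X.ProEt} (hT : LimEt T) : CompactSpace T.left := by
  obtain @⟨I, _, _, D, _, _, _, het, c, hc⟩ := hT
  let D₀ := D ⋙ toSch X
  haveI : ∀ {i j : I} (b : i ⟶ j), IsAffineHom (D₀.map b) := fun {i j} b =>
    inferInstanceAs (IsAffineHom (D.map b).left)
  obtain ⟨i⟩ := IsCofiltered.nonempty (C := I)
  haveI : IsAffineHom (((toSch X).mapCone c).π.app i) := isAffineHom_π_app _ _ hc i
  haveI : CompactSpace ↥((D ⋙ toSch X).obj i) := inferInstanceAs (CompactSpace (D.obj i).left)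
  exact QuasiCompact.compactSpace_of_compactSpace (((toSch X).mapCone c).π.app i)

theorem LimEt.quasiSeparatedSpace {T : X.ProEt} (hT : LimEt T) : QuasiSeparatedSpace T.left := by
  obtain @⟨I, _, _, D, _, _, _, het, c, hc⟩ := hT
  let D₀ := D ⋙ toSch X
  haveI : ∀ {i j : I} (b : i ⟶ j), IsAffineHom (D₀.map b) := fun {i j} b =>
    inferInstanceAs (IsAffineHom (D.map b).left)
  obtain ⟨i⟩ := IsCofiltered.nonempty (C := I)
  haveI : IsAffineHom (((toSch X).mapCone c).π.app i) := isAffineHom_π_app _ _ hc i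
  haveI : QuasiSeparatedSpace ↥((D ⋙ toSch X).obj i) := inferInstanceAs (QuasiSeparatedSpace (D.obj i).left)
  exact quasiSeparatedSpace_of_quasiSeparated (((toSch X).mapCone c).π.app i)

/-- Points of a limit have affine neighbourhoods in the basis. -/
theorem LimEt.exists_bas_nbhd {T : X.ProEt} (hT : LimEt T) (y : T.left) :
    ∃ (T' : X.ProEt) (h : T' ⟶ T), IsOpenImmersion h.left ∧ y ∈ Set.range h.left ∧ Bas T' := by
  obtain @⟨I, _, _, D, _, _, _, het, c, hc⟩ := hT
  let D₀ := D ⋙ toSch X
  haveI : ∀ {i j : I} (b : i ⟶ j), IsAffineHom (D₀.map b) := fun {i j} b =>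
    inferInstanceAs (IsAffineHom (D.map b).left)
  obtain ⟨_, ⟨i, O, hOa, rfl⟩, hy, -⟩ := Opens.isBasis_iff_nbhd.1
    (isBasis_preimage_isAffineOpen _ _ hc) (U := ⊤) (Opens.mem_top y)
  let P : c.pt.left.Opens := (c.π.app i).left ⁻¹ᵁ O
  let h : overObj c.pt P.ι ⟶ c.pt := overHom c.pt P.ι
  haveI : IsOpenImmersion h.left := inferInstanceAs (IsOpenImmersion P.ι)
  have hO : (c.π.app i).left ⁻¹ᵁ O = h.left.opensRange := (Scheme.Opens.opensRange_ι P).symm
  obtain ⟨q, hq⟩ := exists_opnLift c i O h hO
  let D' := bcSys (opnHom (D := D) i O)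
  let c' := bcsCone c (opnHom i O) h q hq
  have hc' := isLimitBcsCone c (opnHom i O) h q hq hc
  haveI hDa : ∀ a, IsAffine (D'.obj a).left := isAffine_bcSys (D := D) i O hOa
  haveI hDe : ∀ a, Etale (D'.obj a).hom := etale_bcSys het i O
  let D₁ : Over i ⥤ Scheme.{u} := D' ⋙ toSch X
  haveI : ∀ {a b : Over i} (m : a ⟶ b), IsAffineHom (D₁.map m) := fun {a b} m =>
    inferInstanceAs (IsAffineHom (D'.map m).left)
  haveI : ∀ a, CompactSpace (D₁.obj a) := fun a => inferInstanceAs (CompactSpace (D'.obj a).left)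
  haveI : ∀ a, QuasiSeparatedSpace (D₁.obj a) := fun a =>
    inferInstanceAs (QuasiSeparatedSpace (D'.obj a).left)
  obtain ⟨hcol⟩ := nonempty_isColimit_Γ_mapCocone D₁ ((toSch X).mapCone c') hc'
  let a0 : Over i := Over.mk (𝟙 i)
  let U : X.Etale := Scheme.Etale.mk (D'.obj a0).hom
  let g : c'.pt ⟶ (ProEtS.eps X).obj U := c'.π.app a0
  haveI : IsAffineHom (((toSch X).mapCone c).π.app i) := isAffineHom_π_app _ _ hc i
  have hPa : IsAffineOpen P := hOa.preimage (((toSch X).mapCone c).π.app i)
  haveI : IsAffine c'.pt.left := hPa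
  haveI hUa : IsAffine U.left := hDa a0
  refine ⟨c'.pt, h, inferInstance, (Scheme.Opens.range_ι P).ge hy, U, g, hUa,
    ⟨inferInstance, hDa a0, ?_⟩⟩
  let tt : ∀ a : Over i, a ⟶ a0 := fun a => Over.homMk a.hom (Category.comp_id _)
  let R : (Over i)ᵒᵖ ⥤ CommRingCat.{u} := D₁.op ⋙ Scheme.Γ
  let s : (Functor.const (Over i)ᵒᵖ).obj Γ((D'.obj a0).left, ⊤) ⟶ R :=
    { app := fun a => (D'.map (tt a.unop)).left.appTop
      naturality := fun a b m => by
        show 𝟙 _ ≫ (D'.map (tt b.unop)).left.appTop =
          (D'.map (tt a.unop)).left.appTop ≫ (D'.map m.unop).left.appTop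
        rw [Category.id_comp, ← Scheme.Hom.comp_appTop,
          show tt b.unop = m.unop ≫ tt a.unop from Over.OverMorphism.ext (Over.w m.unop).symm,
          D'.map_comp]
        rfl }
  haveI : ∀ a : Over i, IsAffine (D₁.obj a) := hDa
  haveI : IsAffine ((ProEtS.eps X).obj U).left := hUa
  refine ⟨(Over i)ᵒᵖ, inferInstance, inferInstance, R, s,
    (Scheme.Γ.mapCocone ((toSch X).mapCone c').op).ι, hcol, fun a => ⟨?_, ?_⟩⟩
  · haveI : Etale ((D'.map (tt a.unop)).left ≫ (D'.obj a0).hom) := by
      rw [MorphismProperty.Over.w]; infer_instance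
    haveI : Etale (D'.map (tt a.unop)).left := Etale.of_comp _ (D'.obj a0).hom
    haveI := hDa a.unop
    haveI := hDa a0
    exact (HasRingHomProperty.iff_of_isAffine (P := @Etale) (f := (D'.map (tt a.unop)).left)).1 inferInstance
  · show (D'.map (tt a.unop)).left.appTop ≫ (c'.π.app a.unop).left.appTop = g.left.appTop
    rw [← Scheme.Hom.comp_appTop]
    exact congrArg Scheme.Hom.appTop (left_eq (c'.w (tt a.unop)))

variable [ProEtS.EpsCont X]

/-- Restriction along open immersions of limits is surjective. -/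
def Fl (G : ProEtS.AbP X) : Prop :=
  ∀ {T T' : X.ProEt} (h : T' ⟶ T), LimEt T → LimEt T' → IsOpenImmersion h.left →
    Function.Surjective (G.obj.map h.op)

theorem fl_injective (J : ProEtS.AbP X) [Injective J] : Fl J := by
  intro T T' h _ _ hh
  haveI : Injective J.obj := Injective.injective_of_adjoint (sheafificationAdjunction _ _) J
  haveI : Mono h.left := inferInstance
  haveI : Mono h := ⟨fun a b e => MorphismProperty.Over.Hom.ext ((cancel_mono h.left).1 (left_eq e))⟩
  exact EtStalk.surjective_map_of_injective_presheaf J.obj h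

theorem fl_epsPull (F : EtCoh.Ab X) [Injective F] : Fl ((ProEtS.epsPull X).obj F) := by
  intro T T' h hT hT' hh σ
  haveI := hh
  haveI := hT'.compactSpace
  obtain @⟨I, _, _, D, _, _, _, het, c, hc⟩ := hT
  let D₀ := D ⋙ toSch X
  haveI : ∀ {i j : I} (b : i ⟶ j), IsAffineHom (D₀.map b) := fun {i j} b =>
    inferInstanceAs (IsAffineHom (D.map b).left)
  obtain ⟨i, O, hOc, hO⟩ := exists_preimage_eq D₀ ((toSch X).mapCone c) hc h.left.opensRange
    (isCompact_range h.left.continuous)
  obtain ⟨q, hq⟩ := exists_opnLift c i O h hO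
  haveI := quasiSeparated_bcSys (D := D) i O
  haveI := compact_bcSys (D := D) i O hOc
  obtain ⟨a, e, he⟩ := exists_stage_section (F := F) (σ := σ)
    (isLimitBcsCone c (opnHom i O) h q hq hc)
  haveI := het a.left
  haveI := etale_bcSys het i O a
  let E' : X.Etale := Scheme.Etale.mk ((bcSys (opnHom i O)).obj a).hom
  let E : X.Etale := Scheme.Etale.mk (D.obj a.left).hom
  let j : E' ⟶ E := MorphismProperty.Over.homMk ((bcGam (opnHom (D := D) i O)).app a).left
    (MorphismProperty.Over.w ((bcGam (opnHom (D := D) i O)).app a))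
  haveI : Mono j.left := inferInstanceAs (Mono (pullback.fst (D.map a.hom).left O.ι))
  haveI : Mono j := ⟨fun x y e => MorphismProperty.Over.Hom.ext
    ((cancel_mono j.left).1 (congrArg (fun f => CommaMorphism.left (MorphismProperty.Comma.Hom.hom f)) e))⟩
  obtain ⟨t, ht⟩ := un_surjective F E' e
  obtain ⟨s, hs⟩ := EtStalk.surjective_map_of_injective F j t
  refine ⟨(pe F).map (c.π.app a.left).op (un F E s), ?_⟩
  refine (Functor.map_comp_apply _ _ _ _).symm.trans ?_
  rw [← op_comp, show h ≫ c.π.app a.left =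
    (bcsCone c (opnHom i O) h q hq).π.app a ≫ (bcGam (opnHom i O)).app a from
      bcsCone_gam c (opnHom i O) h q hq a, op_comp, Functor.map_comp_apply]
  refine (congrArg _ ?_).trans he
  exact ((un_map F j s).trans (congrArg _ hs)).trans ht

end Groth.Agent.ProEtEps19
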