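import Groth.Agent.Lib.ProEtEps19.Zero
import Mathlib.AlgebraicGeometry.AffineTransitionLimit

/-! Vanishing of sections of the pull-back at a finite stage of a limit. -/

universe u

open CategoryTheory Limits AlgebraicGeometry Opposite TopologicalSpace

namespace Groth.Agent.ProEtEps19

set_option backward.isDefEq.respectTransparency false
set_option backward.isDefEq.respectTransparency.types false
set_option linter.style.haveILetI false
set_option maxHeartbeats 1600000

open Groth.Agent.ProEtWC

section Scheme

variable {I : Type u} [SmallCategory I] [IsCofiltered I] (D : I ⥤ Scheme.{u}) (c : Cone D)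

attribute [local instance] CategoryTheory.isConnected_of_hasTerminal

/-- The base change of a system to `P`. -/
noncomputable def bcDiagram {i : I} {P : Scheme.{u}} (g : P ⟶ D.obj i) : Over i ⥤ Scheme.{u} where
  obj j := pullback g (D.map j.hom)
  map {j k} f := pullback.map _ _ _ _ (𝟙 P) (D.map f.left) (𝟙 _) (by simp)
    (by rw [Category.comp_id, ← D.map_comp, Over.w])
  map_id j := by ext <;> simp
  map_comp f f' := by ext <;> simp

/-- The map to the original system. -/
noncomputable def bcDiagramSnd {i : I} {P : Scheme.{u}} (g : P ⟶ D.obj i) :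
    bcDiagram D g ⟶ Over.forget i ⋙ D where
  app j := pullback.snd g (D.map j.hom)
  naturality j k f := by simp [bcDiagram]

/-- Its cone. -/
noncomputable def bcCone {i : I} {P : Scheme.{u}} (g : P ⟶ D.obj i) : Cone (bcDiagram D g) where
  pt := pullback g (c.π.app i)
  π :=
    { app := fun j => pullback.map _ _ _ _ (𝟙 P) (c.π.app j.left) (𝟙 _) (by simp)
        (by rw [Category.comp_id, c.w])
      naturality := fun j k f => by
        apply pullback.hom_ext
        · simp [bcDiagram]
        · simp [bcDiagram, c.w] }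

/-- The base changed cone is a limit. -/
noncomputable def isLimitBcCone (hc : IsLimit c) {i : I} {P : Scheme.{u}} (g : P ⟶ D.obj i) :
    IsLimit (bcCone D c g) :=
  isLimitOfIsPullbackOfIsConnected (bcDiagramSnd D g) _ _
    (by exact { hom := pullback.snd g (c.π.app i), w := fun j => by simp [bcCone, bcDiagramSnd] })
    (fun j => by
      refine (IsPullback.of_bot ?_ ?_ (IsPullback.of_hasPullback g (D.map j.hom)).flip).flip
      · simpa [bcCone, bcDiagramSnd, c.w] using (IsPullback.of_hasPullback g (c.π.app i)).flip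
      · simp [bcCone, bcDiagramSnd])
    ((Functor.Initial.isLimitWhiskerEquiv (Over.forget i) c).symm hc)

instance isAffineHom_bcDiagram [∀ {i j} (f : i ⟶ j), IsAffineHom (D.map f)] {i : I} {P : Scheme.{u}}
    (g : P ⟶ D.obj i) {j k : Over i} (f : j ⟶ k) : IsAffineHom ((bcDiagram D g).map f) := by
  have : IsAffineHom (pullback.fst g (D.map k.hom)) := MorphismProperty.pullback_fst _ _ inferInstance
  have h : IsAffineHom ((bcDiagram D g).map f ≫ pullback.fst g (D.map k.hom)) := by
    rw [show (bcDiagram D g).map f ≫ pullback.fst g (D.map k.hom) = pullback.fst g (D.map j.hom) by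
      simp [bcDiagram]]
    exact MorphismProperty.pullback_fst _ _ inferInstance
  exact IsAffineHom.of_comp _ (pullback.fst g (D.map k.hom))

theorem compactSpace_bcDiagram [∀ {i j} (f : i ⟶ j), IsAffineHom (D.map f)] {i : I} {P : Scheme.{u}}
    (g : P ⟶ D.obj i) [CompactSpace P] (j : Over i) : CompactSpace ((bcDiagram D g).obj j) := by
  haveI : IsAffineHom (pullback.fst g (D.map j.hom)) := MorphismProperty.pullback_fst _ _ inferInstance
  exact QuasiCompact.compactSpace_of_compactSpace (pullback.fst g (D.map j.hom))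

/-- An open of `P` containing the image of the limit contains the image of a stage. -/
theorem exists_stage_subset (hc : IsLimit c) [∀ {i j} (f : i ⟶ j), IsAffineHom (D.map f)] {i : I}
    {P : Scheme.{u}} (g : P ⟶ D.obj i) [CompactSpace P] (Z : P.Opens)
    (hZ : ∀ z, pullback.fst g (c.π.app i) z ∈ Z) :
    ∃ (j : I) (a : j ⟶ i), ∀ z, pullback.fst g (D.map a) z ∈ Z := by
  haveI := compactSpace_bcDiagram D g
  have hp : ((bcCone D c g).π.app (Over.mk (𝟙 i))) ≫ pullback.fst g (D.map (𝟙 i)) =
      pullback.fst g (c.π.app i) := by simp [bcCone]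
  obtain ⟨k, f, hk⟩ := exists_map_eq_top _ _ (isLimitBcCone D c hc g) (i := Over.mk (𝟙 i))
    (pullback.fst g (D.map (𝟙 i)) ⁻¹ᵁ Z) (eq_top_iff.2 fun z _ => by
      show pullback.fst g (D.map (𝟙 i)) ((bcCone D c g).π.app _ z) ∈ Z
      have := congr($hp z)
      exact (congrArg (· ∈ Z) this).mpr (hZ z))
  refine ⟨k.left, k.hom, fun z => ?_⟩
  have h1 : pullback.fst g (D.map (𝟙 i)) ((bcDiagram D g).map f z) ∈ Z := hk.ge (Set.mem_univ z)
  have he : (bcDiagram D g).map f ≫ pullback.fst g (D.map (𝟙 i)) = pullback.fst g (D.map k.hom) := by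
    simp [bcDiagram]
  exact (congrArg (· ∈ Z) congr($he z)).mp h1

end Scheme

variable {X : Scheme.{u}} [ProEtS.EpsCont X] (F : EtCoh.Ab X)
  {I : Type u} [SmallCategory I] [IsCofiltered I] {D : I ⥤ X.ProEt}
  [∀ (i j : I) (a : i ⟶ j), IsAffineHom (D.map a).left]
  {c : Cone D} (hc : IsLimit ((Scheme.ProEt.forget X ⋙ Over.forget X).mapCone c))

include hc in
/-- A section which vanishes on the limit vanishes at a finite stage. -/
theorem exists_stage_zero {i : I} {P : X.ProEt} [CompactSpace P.left] (g : P ⟶ D.obj i)
    (σ : (pe F).obj (op P))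
    (hσ : ∀ (W : X.ProEt) (a : W ⟶ P) (b : W ⟶ c.pt), a ≫ g = b ≫ c.π.app i → (pe F).map a.op σ = 0) :
    ∃ (j : I) (f : j ⟶ i), ∀ (W : X.ProEt) (a : W ⟶ P) (b : W ⟶ D.obj j), a ≫ g = b ≫ D.map f →
      (pe F).map a.op σ = 0 := by
  let D₀ := D ⋙ Scheme.ProEt.forget X ⋙ Over.forget X
  haveI : ∀ {i j : I} (a : i ⟶ j), IsAffineHom (D₀.map a) := fun {i j} a =>
    inferInstanceAs (IsAffineHom (D.map a).left)
  obtain ⟨j, f, hj⟩ := exists_stage_subset D₀ ((Scheme.ProEt.forget X ⋙ Over.forget X).mapCone c) hc g.left
    (pZero F σ) fun z => by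
      haveI : WeaklyEtale (c.π.app i).left := weaklyEtale_left _
      haveI : WeaklyEtale (pullback.fst g.left (c.π.app i).left) := MorphismProperty.pullback_fst _ _ inferInstance
      let W := overObj P (pullback.fst g.left (c.π.app i).left)
      let a : W ⟶ P := overHom P _
      let b : W ⟶ c.pt := MorphismProperty.Over.homMk (pullback.snd g.left (c.π.app i).left) (by
        show pullback.snd _ _ ≫ c.pt.hom = pullback.fst _ _ ≫ P.hom
        refine ((congrArg (pullback.snd g.left (c.π.app i).left ≫ ·) (MorphismProperty.Over.w (c.π.app i)).symm).trans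
          (Category.assoc _ _ _).symm).trans ?_
        refine (congrArg (· ≫ (D.obj i).hom) pullback.condition.symm).trans ?_
        exact (Category.assoc _ _ _).trans (congrArg (pullback.fst g.left _ ≫ ·) (MorphismProperty.Over.w g)))
      have h0 := hσ W a b (MorphismProperty.Over.Hom.ext pullback.condition)
      refine (pZero_map F σ a z).1 ?_
      rw [h0]
      exact Opens.mem_sSup.2 ⟨⊤, map_zero _, trivial⟩
  refine ⟨j, f, fun W a b hab => eq_zero_of_pZero F _ fun w => ?_⟩
  rw [pZero_map]
  have hab' : a.left ≫ g.left = b.left ≫ (D.map f).left :=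
    congrArg (fun e => CommaMorphism.left (MorphismProperty.Comma.Hom.hom e)) hab
  have := hj (pullback.lift a.left b.left hab' w)
  have he : pullback.lift a.left b.left hab' ≫ pullback.fst g.left (D.map f).left = a.left :=
    pullback.lift_fst _ _ _
  exact (congrArg (· ∈ pZero F σ) congr($he w)).mp this

end Groth.Agent.ProEtEps19
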