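import Groth.Agent.Lib.ProEtEps19.Basis
import Groth.Agent.Lib.ProEtEps19.Colim

/-! Čech exactness passes to limits. -/

universe u

open CategoryTheory Limits AlgebraicGeometry Opposite TopologicalSpace

namespace Groth.Agent.ProEtEps19

set_option backward.isDefEq.respectTransparency false
set_option backward.isDefEq.respectTransparency.types false
set_option linter.style.haveILetI false
set_option maxHeartbeats 800000

section Pull

universe w v u'

variable {C : Type u'} [Category.{v} C] {W Y W' Y' : C} {g : W ⟶ Y} {g' : W' ⟶ Y'}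

/-- Transport of tuples along a square. -/
def Tup.map {φW : W ⟶ W'} {φY : Y ⟶ Y'} (sq : g ≫ φY = φW ≫ g') {n : ℕ} {T : C} (x : Tup g n T) : Tup g' n T :=
  ⟨fun k => x.1 k ≫ φW, fun k => by
    rw [Category.assoc, Category.assoc, ← sq, ← Category.assoc, x.2 k, Category.assoc]⟩

/-- Pull-back of cochains along a square. -/
def Cochain.pullSq {P : Cᵒᵖ ⥤ AddCommGrpCat.{w}} {φW : W ⟶ W'} {φY : Y ⟶ Y'} (sq : g ≫ φY = φW ≫ g')
    {n : ℕ} (c : Cochain g' P n) : Cochain g P n where
  val T x := c.val T (x.map sq)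
  nat h x := by
    rw [c.nat]
    exact congrArg (c.val _) (Subtype.ext (funext fun _ => (Category.assoc _ _ _).symm))

theorem Cochain.pullSq_d {P : Cᵒᵖ ⥤ AddCommGrpCat.{w}} {φW : W ⟶ W'} {φY : Y ⟶ Y'} (sq : g ≫ φY = φW ≫ g')
    {n : ℕ} (c : Cochain g' P n) (T : C) (x : Tup g (n + 1) T) :
    (c.pullSq sq).d.val T x = c.d.val T (x.map sq) := rfl

end Pull

variable {X : Scheme.{u}}

section System

variable {I : Type u} [SmallCategory I] [IsCofiltered I] {DW DY : I ⥤ X.ProEt} (γ : DW ⟶ DY)

/-- The powers of a system. -/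
noncomputable def powDiag (n : ℕ) : I ⥤ X.ProEt where
  obj i := (powS (γ.app i) n).R
  map {i j} a := (powS (γ.app j) n).lift (Tup.map (γ.naturality a).symm (powS (γ.app i) n).u)
  map_id i := (powS (γ.app i) n).hom_ext _ _ (by
    rw [(powS (γ.app i) n).fac, Tup.id_comp]
    refine Subtype.ext (funext fun k => ?_)
    show _ ≫ DW.map (𝟙 i) = _
    rw [DW.map_id, Category.comp_id])
  map_comp {i j k} a b := (powS (γ.app k) n).hom_ext _ _ (by
    rw [(powS (γ.app k) n).fac, ← Tup.comp_comp, (powS (γ.app k) n).fac]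
    refine Subtype.ext (funext fun l => ?_)
    show _ ≫ DW.map (a ≫ b) = _ ≫ (_ ≫ DW.map b)
    rw [DW.map_comp, ← Category.assoc, ← Category.assoc]
    refine congrArg (· ≫ DW.map b) ?_
    exact (congrFun (congrArg Subtype.val ((powS (γ.app j) n).fac (Tup.map (γ.naturality a).symm
      (powS (γ.app i) n).u))) l).symm)

variable {cW : Cone DW} {cY : Cone DY} (g : cW.pt ⟶ cY.pt)
  (hg : ∀ i, g ≫ cY.π.app i = cW.π.app i ≫ γ.app i)

/-- The cone on the powers. -/
noncomputable def powCone (n : ℕ) : Cone (powDiag γ n) where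
  pt := (powS g n).R
  π :=
    { app := fun i => (powS (γ.app i) n).lift (Tup.map (hg i) (powS g n).u)
      naturality := fun i j a => (powS (γ.app j) n).hom_ext _ _ (by
        rw [show ((Functor.const I).obj (powS g n).R).map a = 𝟙 _ from rfl, Category.id_comp,
          (powS (γ.app j) n).fac, ← Tup.comp_comp]
        show _ = Tup.comp _ (Tup.comp ((powS (γ.app j) n).lift _) _)
        rw [(powS (γ.app j) n).fac]
        refine Subtype.ext (funext fun l => ?_)
        show _ ≫ cW.π.app j = _ ≫ (_ ≫ DW.map a)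
        rw [← cW.w a, ← Category.assoc, ← Category.assoc]
        refine congrArg (· ≫ DW.map a) ?_
        exact (congrFun (congrArg Subtype.val ((powS (γ.app i) n).fac (Tup.map (hg i) (powS g n).u))) l).symm) }

theorem powCone_π_u (n : ℕ) (i : I) (k : Fin (n + 1)) :
    (powCone γ g hg n).π.app i ≫ (powS (γ.app i) n).u.1 k = (powS g n).u.1 k ≫ cW.π.app i :=
  congrFun (congrArg Subtype.val ((powS (γ.app i) n).fac (Tup.map (hg i) (powS g n).u))) k

/-- It is a limit of schemes. -/
noncomputable def isLimitPowCone (n : ℕ)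
    (hW : IsLimit ((Scheme.ProEt.forget X ⋙ Over.forget X).mapCone cW))
    (hY : IsLimit ((Scheme.ProEt.forget X ⋙ Over.forget X).mapCone cY)) :
    IsLimit ((Scheme.ProEt.forget X ⋙ Over.forget X).mapCone (powCone γ g hg n)) := by
  let F := Scheme.ProEt.forget X ⋙ Over.forget X
  have hnat : ∀ {i j : I} (a : i ⟶ j) (k : Fin (n + 1)),
      ((powDiag γ n).map a).left ≫ ((powS (γ.app j) n).u.1 k).left =
        ((powS (γ.app i) n).u.1 k).left ≫ (DW.map a).left := fun {i j} a k =>
    left_eq (congrFun (congrArg Subtype.val ((powS (γ.app j) n).fac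
      (Tup.map (γ.naturality a).symm (powS (γ.app i) n).u))) k)
  let compo : ∀ (s : Cone (powDiag γ n ⋙ F)) (k : Fin (n + 1)), Cone (DW ⋙ F) := fun s k =>
    { pt := s.pt
      π :=
        { app := fun i => s.π.app i ≫ ((powS (γ.app i) n).u.1 k).left
          naturality := fun i j a => by
            show 𝟙 _ ≫ s.π.app j ≫ _ = (s.π.app i ≫ _) ≫ (DW.map a).left
            rw [Category.id_comp, Category.assoc, ← hnat a k, ← Category.assoc]
            exact congrArg (· ≫ _) (s.w a).symm } }
  have hx : ∀ (s : Cone (powDiag γ n ⋙ F)) (k : Fin (n + 1)),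
      hW.lift (compo s k) ≫ g.left = hW.lift (compo s 0) ≫ g.left := by
    intro s k
    refine hY.hom_ext fun i => ?_
    have e : ∀ l, (hW.lift (compo s l) ≫ g.left) ≫ (cY.π.app i).left =
        s.π.app i ≫ ((powS (γ.app i) n).u.1 l).left ≫ (γ.app i).left := by
      intro l
      rw [Category.assoc]
      refine (congrArg (hW.lift (compo s l) ≫ ·) (left_eq (hg i))).trans ?_
      refine (Category.assoc _ _ _).symm.trans ((congrArg (· ≫ (γ.app i).left) (hW.fac (compo s l) i)).trans ?_)
      exact Category.assoc _ _ _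
    exact (e k).trans ((congrArg (s.π.app i ≫ ·) (left_eq ((powS (γ.app i) n).u.2 k))).trans (e 0).symm)
  choose a ha using fun s : Cone (powDiag γ n ⋙ F) =>
    (powS g n).scheme_lift (fun k => hW.lift (compo s k)) (hx s)
  refine ⟨a, fun s i => ?_, fun s m hm => ?_⟩
  · refine (powS (γ.app i) n).scheme_ext _ _ fun k => ?_
    refine (Category.assoc _ _ _).trans ?_
    refine (congrArg (a s ≫ ·) (left_eq (powCone_π_u γ g hg n i k))).trans ?_
    refine (Category.assoc _ _ _).symm.trans ((congrArg (· ≫ (cW.π.app i).left) (ha s k)).trans ?_)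
    exact hW.fac (compo s k) i
  · refine (powS g n).scheme_ext _ _ fun k => ?_
    rw [ha s k]
    refine hW.hom_ext fun i => ?_
    refine Eq.trans ?_ (hW.fac (compo s k) i).symm
    show (m ≫ _) ≫ (cW.π.app i).left = s.π.app i ≫ _
    rw [Category.assoc, ← hm i]
    exact ((congrArg (m ≫ ·) (left_eq (powCone_π_u γ g hg n i k)).symm)).trans (Category.assoc _ _ _).symm

end System

section Main

variable [ProEtS.EpsCont X] (F : EtCoh.Ab X)
  {I : Type u} [SmallCategory I] [IsCofiltered I] {DW DY : I ⥤ X.ProEt} (γ : DW ⟶ DY)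
  {cW : Cone DW} {cY : Cone DY} (g : cW.pt ⟶ cY.pt)
  (hg : ∀ i, g ≫ cY.π.app i = cW.π.app i ≫ γ.app i)
  (hW : IsLimit ((Scheme.ProEt.forget X ⋙ Over.forget X).mapCone cW))
  (hY : IsLimit ((Scheme.ProEt.forget X ⋙ Over.forget X).mapCone cY))
  [∀ i, IsAffine (DW.obj i).left] [∀ i, IsAffine (DY.obj i).left]

include hg hW hY in
theorem cechExact_of_isLimit (h : ∀ i, CechExact (γ.app i) (pe F)) : CechExact g (pe F) := by
  intro n c hc
  haveI : ∀ m i, IsAffine ((powDiag γ m).obj i).left := fun m i => isAffine_powS (γ.app i) m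
  haveI : ∀ m (i j : I) (a : i ⟶ j), IsAffineHom ((powDiag γ m).map a).left := fun m i j a => inferInstance
  haveI : ∀ m i, CompactSpace ((powDiag γ m).obj i).left := fun m i => inferInstance
  haveI : ∀ m i, QuasiSeparatedSpace ((powDiag γ m).obj i).left := fun m i => inferInstance
  obtain ⟨i, e, he⟩ := exists_stage_section (F := F) (σ := c.val _ (powS g (n + 1)).u)
    (isLimitPowCone γ g hg (n + 1) hW hY)
  let ci := (powS (γ.app i) (n + 1)).cochain e
  have hci : ci.pullSq (hg i) = c := Cochain.ext fun T x => by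
    rw [(powS g (n + 1)).eq_cochain c T x]
    refine Eq.trans ?_ (congrArg ((pe F).map ((powS g (n + 1)).lift x).op) he)
    erw [← Functor.map_comp_apply]
    show (pe F).map ((powS (γ.app i) (n + 1)).lift (x.map (hg i))).op e = _
    rw [← op_comp]
    refine congrArg (fun q : T ⟶ (powS (γ.app i) (n + 1)).R => (pe F).map q.op e)
      ((powS (γ.app i) (n + 1)).hom_ext _ _ ?_)
    rw [(powS (γ.app i) (n + 1)).fac, ← Tup.comp_comp]
    refine Subtype.ext (funext fun k => ?_)
    show x.1 k ≫ cW.π.app i = _ ≫ _ ≫ _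
    rw [powCone_π_u, ← Category.assoc]
    exact congrArg (· ≫ cW.π.app i) (congrFun (congrArg Subtype.val ((powS g (n + 1)).fac x)) k).symm
  obtain ⟨j, f, hj⟩ := exists_stage_eq F (isLimitPowCone γ g hg (n + 2) hW hY)
    (i := i) (ci.d.val _ (powS (γ.app i) (n + 2)).u) 0 (by
      rw [map_zero]
      refine (ci.d.nat ((powCone γ g hg (n + 2)).π.app i) _).trans ?_
      have : Tup.comp ((powCone γ g hg (n + 2)).π.app i) (powS (γ.app i) (n + 2)).u =
          Tup.map (hg i) (powS g (n + 2)).u :=
        Subtype.ext (funext fun k => powCone_π_u γ g hg (n + 2) i k)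
      rw [this, ← Cochain.pullSq_d, hci]
      exact hc _ _)
  let cj := ci.pullSq (γ.naturality f).symm
  have hcj : ∀ T x, cj.d.val T x = 0 := fun T x => by
    rw [(powS (γ.app j) (n + 2)).eq_cochain cj.d T x, Cochain.pullSq_d]
    refine (congrArg _ ?_).trans (map_zero _)
    have : Tup.map (γ.naturality f).symm (powS (γ.app j) (n + 2)).u =
        Tup.comp ((powDiag γ (n + 2)).map f) (powS (γ.app i) (n + 2)).u :=
      ((powS (γ.app i) (n + 2)).fac _).symm
    rw [this]
    exact ((ci.d.nat _ _).symm.trans hj).trans (map_zero _)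
  obtain ⟨b, hb⟩ := h j n cj hcj
  refine ⟨b.pullSq (hg j), fun T x => ?_⟩
  rw [Cochain.pullSq_d, hb, ← hci]
  show ci.val T _ = ci.val T _
  refine congrArg (ci.val T) (Subtype.ext (funext fun k => ?_))
  show (x.1 k ≫ cW.π.app j) ≫ DW.map f = x.1 k ≫ cW.π.app i
  rw [Category.assoc, cW.w f]

end Main

end Groth.Agent.ProEtEps19
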