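import Groth.Agent.Lib.ProEtEps19.Eps
import Mathlib.AlgebraicGeometry.Morphisms.Flat

/-! The zero locus of a section of the pull-back is open. -/

universe u

open CategoryTheory Limits AlgebraicGeometry Opposite TopologicalSpace

namespace Groth.Agent.ProEtEps19

set_option backward.isDefEq.respectTransparency false
set_option backward.isDefEq.respectTransparency.types false
set_option linter.style.haveILetI false
set_option maxHeartbeats 1600000

open Groth.Agent.ProEtWC

variable {X : Scheme.{u}}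

theorem etale_left {U V : X.Etale} (g : V ⟶ U) : Etale g.left := by
  have hV : Etale V.hom := V.prop
  have hU : Etale U.hom := U.prop
  have : g.left ≫ U.hom = V.hom := MorphismProperty.Over.w g
  haveI : Etale (g.left ≫ U.hom) := by rw [this]; exact hV
  exact Etale.of_comp g.left U.hom

/-- Open subobject on the étale site. -/
noncomputable abbrev etSub (V : X.Etale) (O : V.left.Opens) : X.Etale :=
  haveI : Etale V.hom := V.prop
  Scheme.Etale.mk (O.ι ≫ V.hom)

/-- Its inclusion. -/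
noncomputable abbrev etSubι (V : X.Etale) (O : V.left.Opens) : etSub V O ⟶ V :=
  MorphismProperty.Over.homMk O.ι

/-- Product on the étale site. -/
noncomputable abbrev etProd (V V' : X.Etale) : X.Etale :=
  haveI : Etale V.hom := V.prop
  haveI : Etale V'.hom := V'.prop
  Scheme.Etale.mk (pullback.fst V.hom V'.hom ≫ V.hom)

/-- First projection. -/
noncomputable abbrev etFst (V V' : X.Etale) : etProd V V' ⟶ V :=
  MorphismProperty.Over.homMk (pullback.fst V.hom V'.hom)

/-- Second projection. -/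
noncomputable abbrev etSnd (V V' : X.Etale) : etProd V V' ⟶ V' :=
  MorphismProperty.Over.homMk (pullback.snd V.hom V'.hom) pullback.condition.symm

theorem exists_point_of_cover {Y : X.ProEt} {S : Sieve Y} (hS : S ∈ Scheme.ProEt.topology X Y) (y : Y.left) :
    ∃ (W : X.ProEt) (g : W ⟶ Y) (w : W.left), Sieve.arrows S g ∧ g.left w = y := by
  haveI : PreservesLimitsOfShape WalkingCospan (Scheme.ProEt.forget X ⋙ Over.forget X) :=
    comp_preservesLimitsOfShape _ _
  haveI : (Scheme.ProEt.precoverage X).IsStableUnderComposition :=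
    inferInstanceAs (Scheme.proetalePrecoverage.comap _).IsStableUnderComposition
  haveI : (Scheme.ProEt.precoverage X).IsStableUnderBaseChange :=
    inferInstanceAs (Scheme.proetalePrecoverage.comap _).IsStableUnderBaseChange
  haveI : (Scheme.ProEt.precoverage X).HasIsos :=
    inferInstanceAs (Scheme.proetalePrecoverage.comap _).HasIsos
  obtain ⟨T, hT, hle⟩ := Precoverage.mem_toGrothendieck_iff_of_isStableUnderComposition.1 hS
  obtain ⟨ι, V, g, rfl⟩ := T.exists_eq_ofArrows
  have hT' : (Presieve.ofArrows V g).map (Scheme.ProEt.forget X ⋙ Over.forget X) ∈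
    Scheme.proetalePrecoverage Y.left := hT
  rw [Presieve.map_ofArrows] at hT'
  obtain ⟨i, w, hw⟩ := ((Scheme.ofArrows_mem_precoverage_iff _).1 hT'.2).1 y
  exact ⟨V i, g i, w, hle _ _ ⟨i⟩, hw⟩

section Etale

variable (F : EtCoh.Ab X)

/-- The zero locus of an étale section. -/
noncomputable def eZero {V : X.Etale} (t : F.obj.obj (op V)) : V.left.Opens :=
  sSup {O | F.obj.map (etSubι V O).op t = 0}

theorem eq_zero_of_cover_et {V : X.Etale} {ι : Type u} (Vi : ι → X.Etale) (g : ∀ i, Vi i ⟶ V)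
    (hg : ∀ v : V.left, ∃ i, v ∈ Set.range (g i).left) (t : F.obj.obj (op V))
    (h : ∀ i, F.obj.map (g i).op t = 0) : t = 0 := by
  have hS : Sieve.ofArrows Vi g ∈ X.smallEtaleTopology V := by
    have eX : X.smallEtaleTopology =
        (X.smallPretopology (P := EtCoh.etaleMP) (Q := EtCoh.etaleMP)).toGrothendieck :=
      Scheme.smallGrothendieckTopology_eq_toGrothendieck_smallPretopology X le_rfl
    rw [eX]
    refine (Scheme.mem_toGrothendieck_smallPretopology V _).2 fun v => ?_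
    obtain ⟨i, w, hw⟩ := hg v
    exact ⟨Vi i, g i, w, Sieve.ofArrows_mk _ _ i, etale_left (g i), hw⟩
  refine (((isSheaf_iff_isSheaf_of_type _ _).1
    ((Presheaf.isSheaf_iff_isSheaf_forget _ F.obj (forget AddCommGrpCat.{u + 1})).1 F.property)) _ hS).isSeparatedFor.ext
    fun W f hf => ?_
  obtain ⟨i, a, rfl⟩ := (Sieve.mem_ofArrows_iff _ _ _).1 hf
  show F.obj.map (a ≫ g i).op t = F.obj.map (a ≫ g i).op 0
  rw [map_zero, op_comp, Functor.map_comp_apply, h, map_zero]

theorem map_eZero {V : X.Etale} (t : F.obj.obj (op V)) : F.obj.map (etSubι V (eZero F t)).op t = 0 := by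
  refine eq_zero_of_cover_et F (fun O : {O : V.left.Opens // F.obj.map (etSubι V O).op t = 0} => etSub V O.1)
    (fun O => MorphismProperty.Over.homMk (A := etSub V O.1) (B := etSub V (eZero F t))
      (V.left.homOfLE (le_sSup O.2 : O.1 ≤ eZero F t))
      (by show _ ≫ (eZero F t).ι ≫ V.hom = O.1.ι ≫ V.hom; rw [Scheme.homOfLE_ι_assoc])) ?_ _ fun O => ?_
  · intro v
    obtain ⟨O, hO, hv⟩ := Opens.mem_sSup.1 v.2
    exact ⟨⟨O, hO⟩, ⟨v.1, hv⟩,
      Subtype.ext (congr($(Scheme.homOfLE_ι V.left (le_sSup hO : O ≤ eZero F t)) ⟨v.1, hv⟩))⟩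
  · rw [← Functor.map_comp_apply, ← op_comp]
    refine Eq.trans (congrArg (fun q : etSub V O.1 ⟶ V => F.obj.map q.op t) ?_) O.2
    exact MorphismProperty.Over.Hom.ext (Scheme.homOfLE_ι V.left (le_sSup O.2 : O.1 ≤ eZero F t))

theorem mem_eZero_of_map {V V' : X.Etale} (b : V' ⟶ V) (t : F.obj.obj (op V)) (h : F.obj.map b.op t = 0)
    (x : V'.left) : b.left x ∈ eZero F t := by
  haveI := etale_left b
  let O : V.left.Opens := ⟨Set.range b.left, b.left.isOpenMap.isOpen_range⟩
  refine Opens.mem_sSup.2 ⟨O, ?_, ⟨x, rfl⟩⟩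
  let b' : V'.left ⟶ O.toScheme := IsOpenImmersion.lift O.ι b.left (Scheme.Opens.range_ι O).ge
  have hb' : b' ≫ O.ι = b.left := IsOpenImmersion.lift_fac _ _ _
  refine eq_zero_of_cover_et F (fun _ : PUnit.{u + 1} => V') (fun _ => MorphismProperty.Over.homMk b'
    (by show b' ≫ O.ι ≫ V.hom = V'.hom
        rw [← Category.assoc, hb', MorphismProperty.Over.w])) ?_ _ fun _ => ?_
  · rintro ⟨v, w, rfl⟩
    refine ⟨⟨⟩, w, Subtype.ext ?_⟩
    exact congr($hb' w)
  · rw [← Functor.map_comp_apply, ← op_comp]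
    exact Eq.trans (congrArg (fun q : V' ⟶ V => F.obj.map q.op t) (MorphismProperty.Over.Hom.ext hb')) h

theorem eZero_map {V V' : X.Etale} (b : V' ⟶ V) (t : F.obj.obj (op V)) (x : V'.left) :
    x ∈ eZero F (F.obj.map b.op t) ↔ b.left x ∈ eZero F t := by
  constructor
  · intro hx
    refine mem_eZero_of_map F (etSubι V' _ ≫ b) t ?_ ⟨x, hx⟩
    rw [op_comp, Functor.map_comp_apply]
    exact map_eZero F _
  · intro hx
    refine Opens.mem_sSup.2 ⟨b.left ⁻¹ᵁ eZero F t, ?_, hx⟩
    rw [Set.mem_setOf_eq, ← Functor.map_comp_apply, ← op_comp]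
    let c : etSub V' (b.left ⁻¹ᵁ eZero F t) ⟶ etSub V (eZero F t) :=
      MorphismProperty.Over.homMk (b.left ∣_ eZero F t)
        (by show (b.left ∣_ eZero F t) ≫ (eZero F t).ι ≫ V.hom = _
            rw [← Category.assoc, morphismRestrict_ι, Category.assoc, MorphismProperty.Over.w]; rfl)
    have : etSubι V' (b.left ⁻¹ᵁ eZero F t) ≫ b = c ≫ etSubι V (eZero F t) :=
      MorphismProperty.Over.Hom.ext (morphismRestrict_ι _ _).symm
    rw [this, op_comp, Functor.map_comp_apply, map_eZero, map_zero]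

theorem eZero_inf_le {V : X.Etale} (t t' : F.obj.obj (op V)) :
    eZero F t ⊓ eZero F (t - t') ≤ eZero F t' := by
  refine le_sSup ?_
  have hle : ∀ (s : F.obj.obj (op V)) (O : V.left.Opens) (h : O ≤ eZero F s),
      F.obj.map (etSubι V O).op s = 0 := fun s O h => by
    let c : etSub V O ⟶ etSub V (eZero F s) := MorphismProperty.Over.homMk (V.left.homOfLE h)
      (by show _ ≫ (eZero F s).ι ≫ V.hom = O.ι ≫ V.hom; rw [Scheme.homOfLE_ι_assoc])
    have : etSubι V O = c ≫ etSubι V (eZero F s) :=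
      MorphismProperty.Over.Hom.ext (Scheme.homOfLE_ι _ h).symm
    rw [this, op_comp, Functor.map_comp_apply, map_eZero, map_zero]
  have h1 := hle t _ (inf_le_left : eZero F t ⊓ eZero F (t - t') ≤ _)
  have h2 := hle (t - t') _ (inf_le_right : eZero F t ⊓ eZero F (t - t') ≤ _)
  rw [map_sub, h1, zero_sub, neg_eq_zero] at h2
  exact h2

end Etale

section ProEt

variable [ProEtS.EpsCont X] (F : EtCoh.Ab X)

theorem rep_sub {V : X.Etale} {W : X.ProEt} (a : W ⟶ (ProEtS.eps X).obj V) (t t' : F.obj.obj (op V)) :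
    rep F a (t - t') = rep F a t - rep F a t' := by
  simp only [rep, map_sub]

theorem rep_eq_zero_iff {V : X.Etale} {W : X.ProEt} (a : W ⟶ (ProEtS.eps X).obj V) (t : F.obj.obj (op V)) :
    rep F a t = 0 ↔ ∀ w : W.left, a.left w ∈ eZero F t := by
  constructor
  · intro h w
    obtain ⟨S, hS, hS'⟩ := exists_zero F a t h
    obtain ⟨W', g, w', hg, rfl⟩ := exists_point_of_cover hS w
    obtain ⟨V', b, a', he, hb⟩ := hS' g hg
    have h1 : b.left (a'.left w') = a.left (g.left w') :=
      congr($(congrArg (fun e => CommaMorphism.left (MorphismProperty.Comma.Hom.hom e)) he) w')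
    rw [← h1]
    exact mem_eZero_of_map F b t hb _
  · intro h
    let a₀ : W.left ⟶ (eZero F t).toScheme := IsOpenImmersion.lift (eZero F t).ι a.left (by
      rintro _ ⟨w, rfl⟩
      exact (Scheme.Opens.range_ι _).ge (h w))
    have ha₀ : a₀ ≫ (eZero F t).ι = a.left := IsOpenImmersion.lift_fac _ _ _
    let a' : W ⟶ (ProEtS.eps X).obj (etSub V (eZero F t)) := MorphismProperty.Over.homMk a₀
      (by show a₀ ≫ (eZero F t).ι ≫ V.hom = W.hom
          rw [← Category.assoc, ha₀]
          exact MorphismProperty.Over.w a)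
    have : a = a' ≫ (ProEtS.eps X).map (etSubι V (eZero F t)) := MorphismProperty.Over.Hom.ext ha₀.symm
    rw [this, rep_map, map_eZero]
    simp [rep]

/-- The zero locus of a section of the pull-back. -/
noncomputable def pZero {Y : X.ProEt} (σ : (pe F).obj (op Y)) : Y.left.Opens :=
  sSup {O | (pe F).map (overHom Y O.ι).op σ = 0}

theorem transfer {Y W W' : X.ProEt} (σ : (pe F).obj (op Y)) {g : W ⟶ Y} {g' : W' ⟶ Y}
    {V V' : X.Etale} {a : W ⟶ (ProEtS.eps X).obj V} {t : F.obj.obj (op V)}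
    {a' : W' ⟶ (ProEtS.eps X).obj V'} {t' : F.obj.obj (op V')}
    (h : (pe F).map g.op σ = rep F a t) (h' : (pe F).map g'.op σ = rep F a' t')
    {w : W.left} {w' : W'.left} (hw : g.left w = g'.left w') (hz : a.left w ∈ eZero F t) :
    a'.left w' ∈ eZero F t' := by
  haveI := weaklyEtale_left g'
  let P := overObj W (pullback.fst g.left g'.left)
  let p₁ : P ⟶ W := overHom W (pullback.fst g.left g'.left)
  let p₂ : P ⟶ W' := MorphismProperty.Over.homMk (pullback.snd g.left g'.left) (by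
    show pullback.snd _ _ ≫ W'.hom = pullback.fst _ _ ≫ W.hom
    rw [← MorphismProperty.Over.w g', ← MorphismProperty.Over.w g, ← Category.assoc, ← Category.assoc,
      pullback.condition])
  obtain ⟨p, hp₁, hp₂⟩ := Scheme.Pullback.exists_preimage_pullback (f := g.left) (g := g'.left) w w' hw
  let q : P ⟶ (ProEtS.eps X).obj (etProd V V') := MorphismProperty.Over.homMk
    (pullback.lift (p₁ ≫ a).left (p₂ ≫ a').left
      ((MorphismProperty.Over.w (p₁ ≫ a)).trans (MorphismProperty.Over.w (p₂ ≫ a')).symm)) (by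
    show _ ≫ pullback.fst _ _ ≫ V.hom = P.hom
    rw [pullback.lift_fst_assoc]
    exact MorphismProperty.Over.w (p₁ ≫ a))
  have e₁ : q ≫ (ProEtS.eps X).map (etFst V V') = p₁ ≫ a :=
    MorphismProperty.Over.Hom.ext (pullback.lift_fst _ _ _)
  have e₂ : q ≫ (ProEtS.eps X).map (etSnd V V') = p₂ ≫ a' :=
    MorphismProperty.Over.Hom.ext (pullback.lift_snd _ _ _)
  have hd : rep F q (F.obj.map (etFst V V').op t - F.obj.map (etSnd V V').op t') = 0 := by
    rw [rep_sub, sub_eq_zero, ← rep_map, ← rep_map, e₁, e₂, ← map_rep, ← map_rep, ← h, ← h',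
      ← Functor.map_comp_apply, ← Functor.map_comp_apply, ← op_comp, ← op_comp]
    exact congrArg (fun e => (pe F).map e.op σ) (MorphismProperty.Over.Hom.ext (show (p₁ ≫ g).left = (p₂ ≫ g').left from pullback.condition))
  have hq₁ : (etFst V V').left (q.left p) = a.left w := by
    rw [← hp₁]
    exact congr($(congrArg (fun e => CommaMorphism.left (MorphismProperty.Comma.Hom.hom e)) e₁) p)
  have hq₂ : (etSnd V V').left (q.left p) = a'.left w' := by
    rw [← hp₂]
    exact congr($(congrArg (fun e => CommaMorphism.left (MorphismProperty.Comma.Hom.hom e)) e₂) p)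
  rw [← hq₂, ← eZero_map]
  exact eZero_inf_le F _ _ ⟨(eZero_map F _ _ _).2 (hq₁ ▸ hz), (rep_eq_zero_iff F q _).1 hd p⟩

/-- The points at which a section vanishes, through representatives. -/
def zeroSet {Y : X.ProEt} (σ : (pe F).obj (op Y)) : Set Y.left :=
  {y | ∃ (W : X.ProEt) (g : W ⟶ Y) (V : X.Etale) (a : W ⟶ (ProEtS.eps X).obj V) (t : F.obj.obj (op V))
    (w : W.left), (pe F).map g.op σ = rep F a t ∧ g.left w = y ∧ a.left w ∈ eZero F t}

theorem mem_zeroSet_iff {Y W : X.ProEt} (σ : (pe F).obj (op Y)) (g : W ⟶ Y) {V : X.Etale}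
    (a : W ⟶ (ProEtS.eps X).obj V) (t : F.obj.obj (op V)) (h : (pe F).map g.op σ = rep F a t) (w : W.left) :
    g.left w ∈ zeroSet F σ ↔ a.left w ∈ eZero F t :=
  ⟨fun ⟨_, _, _, _, _, _, h', hw', hz'⟩ => transfer F σ h' h hw' hz',
    fun hz => ⟨W, g, V, a, t, w, h, rfl, hz⟩⟩

theorem isOpen_zeroSet {Y : X.ProEt} (σ : (pe F).obj (op Y)) : IsOpen (zeroSet F σ) := by
  classical
  obtain ⟨S, hS, hS'⟩ := exists_rep F σ
  refine isOpen_iff_forall_mem_open.2 fun y hy => ?_
  obtain ⟨U, hU, hyU, -⟩ := exists_isAffineOpen_mem_and_subset (X := Y.left) (x := y) (U := ⊤) trivial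
  haveI : IsAffine U.toScheme := hU
  haveI : IsAffine (overObj Y U.ι).left := hU
  obtain ⟨ι, hfin, B, b, hb, hB, hcov, hR⟩ :=
    exists_affine_refinement ((Scheme.ProEt.topology X).pullback_stable (overHom Y U.ι) hS)
  haveI := hB; haveI := hfin
  choose V a t hr using fun i => hS' _ (hR i)
  let q := Sigma.desc b
  haveI : WeaklyEtale q := IsZariskiLocalAtSource.sigmaDesc hb
  haveI : Surjective q := Surjective.sigmaDesc_of_union_range_eq_univ
    (Set.eq_univ_of_forall fun x => Set.mem_iUnion.2 (by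
      obtain ⟨i, z, hz⟩ := hcov x; exact ⟨i, z, hz⟩))
  haveI : QuasiCompact q := inferInstance
  have hqu : IsOpen ((U.ι : U.toScheme ⟶ Y.left) ⁻¹' zeroSet F σ) := by
    rw [← (Flat.isQuotientMap_of_surjective q).isOpen_preimage,
      (sigmaOpenCover B).isOpenCover_opensRange.isOpen_iff_inter]
    intro i
    have he : q ⁻¹' (U.ι ⁻¹' zeroSet F σ) ∩ ((sigmaOpenCover B).f i).opensRange =
        (Sigma.ι B i) '' ((a i).left ⁻¹' (eZero F (t i) : Set (V i).left)) := by
      ext z
      constructor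
      · rintro ⟨hz, z', rfl⟩
        refine ⟨z', (mem_zeroSet_iff F σ _ (a i) (t i) (hr i) z').1 ?_, rfl⟩
        have : q (Sigma.ι B i z') = b i z' := congr($(Sigma.ι_desc b i) z')
        show U.ι (b i z') ∈ _
        rw [← this]; exact hz
      · rintro ⟨z', hz', rfl⟩
        refine ⟨?_, z', rfl⟩
        have : q (Sigma.ι B i z') = b i z' := congr($(Sigma.ι_desc b i) z')
        show U.ι (q (Sigma.ι B i z')) ∈ zeroSet F σ
        rw [this]
        exact (mem_zeroSet_iff F σ _ (a i) (t i) (hr i) z').2 hz'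
    rw [he]
    exact (Sigma.ι B i).isOpenEmbedding.isOpenMap _ ((eZero F (t i)).2.preimage (a i).left.continuous)
  refine ⟨U.ι '' (U.ι ⁻¹' zeroSet F σ), Set.image_preimage_subset _ _,
    U.ι.isOpenEmbedding.isOpenMap _ hqu, ⟨⟨y, hyU⟩, hy, rfl⟩⟩

theorem pZero_map_eq_zero {Y₀ : X.ProEt} (σ : (pe F).obj (op Y₀)) :
    (pe F).map (overHom Y₀ (pZero F σ).ι).op σ = 0 := by
  let O : {O : Y₀.left.Opens // (pe F).map (overHom Y₀ O.ι).op σ = 0} → (overObj Y₀ (pZero F σ).ι).left.Opens :=
    fun O => (pZero F σ).ι ⁻¹ᵁ O.1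
  refine eq_of_cover (opens_cover_mem _ O ?_) ((ProEtS.epsPull X).obj F) _ 0 fun W g hg => ?_
  · refine eq_top_iff.2 fun y _ => ?_
    obtain ⟨O', hO', hy⟩ := Opens.mem_sSup.1 y.2
    exact Opens.mem_iSup.2 ⟨⟨O', hO'⟩, hy⟩
  · obtain ⟨Z, c, e, ⟨O'⟩, rfl⟩ := hg
    rw [map_zero]
    let d₀ := (pZero F σ).ι ∣_ O'.1
    let d : overObj (overObj Y₀ (pZero F σ).ι) (O O').ι ⟶ overObj Y₀ O'.1.ι :=
      MorphismProperty.Over.homMk d₀ (by
        show d₀ ≫ O'.1.ι ≫ Y₀.hom = (O O').ι ≫ (pZero F σ).ι ≫ Y₀.hom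
        rw [← Category.assoc, morphismRestrict_ι, Category.assoc])
    have hd : overHom (overObj Y₀ (pZero F σ).ι) (O O').ι ≫ overHom Y₀ (pZero F σ).ι = d ≫ overHom Y₀ O'.1.ι :=
      MorphismProperty.Over.Hom.ext (morphismRestrict_ι _ _).symm
    rw [op_comp, Functor.map_comp_apply, ← Functor.map_comp_apply ((pe F)) (overHom Y₀ _).op, ← op_comp, hd,
      op_comp, Functor.map_comp_apply, O'.2, map_zero, map_zero]

theorem mem_pZero_iff {Y W : X.ProEt} (σ : (pe F).obj (op Y)) (g : W ⟶ Y) {V : X.Etale}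
    (a : W ⟶ (ProEtS.eps X).obj V) (t : F.obj.obj (op V)) (h : (pe F).map g.op σ = rep F a t) (w : W.left) :
    g.left w ∈ pZero F σ ↔ a.left w ∈ eZero F t := by
  rw [← mem_zeroSet_iff F σ g a t h w]
  constructor
  · intro hw
    obtain ⟨S, hS, hS'⟩ := exists_rep F σ
    obtain ⟨W', g', w', hg', hw'⟩ := exists_point_of_cover
      ((Scheme.ProEt.topology X).pullback_stable (overHom Y (pZero F σ).ι) hS) ⟨_, hw⟩
    obtain ⟨V', a', t', h'⟩ := hS' _ hg'
    refine ⟨W', _, V', a', t', w', h', congrArg Subtype.val hw', ?_⟩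
    refine (rep_eq_zero_iff F a' t').1 ?_ w'
    rw [← h', op_comp, Functor.map_comp_apply, pZero_map_eq_zero, map_zero]
  · intro hw
    refine Opens.mem_sSup.2 ⟨⟨zeroSet F σ, isOpen_zeroSet F σ⟩, ?_, hw⟩
    obtain ⟨S, hS, hS'⟩ := exists_rep F σ
    refine eq_of_cover ((Scheme.ProEt.topology X).pullback_stable
      (overHom Y (show Y.left.Opens from ⟨zeroSet F σ, isOpen_zeroSet F σ⟩).ι) hS) ((ProEtS.epsPull X).obj F) _ 0
      fun W' g' hg' => ?_
    obtain ⟨V', a', t', h'⟩ := hS' _ hg'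
    rw [map_zero, ← Functor.map_comp_apply, ← op_comp, h']
    refine (rep_eq_zero_iff F a' t').2 fun w' => (mem_zeroSet_iff F σ _ a' t' h' w').1 ?_
    exact (g'.left w').2

/-- The zero locus commutes with pullback. -/
theorem pZero_map {Y W : X.ProEt} (σ : (pe F).obj (op Y)) (g : W ⟶ Y) (w : W.left) :
    w ∈ pZero F ((pe F).map g.op σ) ↔ g.left w ∈ pZero F σ := by
  obtain ⟨S, hS, hS'⟩ := exists_rep F σ
  obtain ⟨W', g', w', hg', rfl⟩ := exists_point_of_cover ((Scheme.ProEt.topology X).pullback_stable g hS) w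
  obtain ⟨V', a', t', h'⟩ := hS' _ hg'
  rw [mem_pZero_iff F _ g' a' t' (by rw [← Functor.map_comp_apply, ← op_comp]; exact h')]
  exact (mem_pZero_iff F σ (g' ≫ g) a' t' h' w').symm

theorem eq_zero_of_pZero {Y : X.ProEt} (σ : (pe F).obj (op Y)) (h : ∀ y : Y.left, y ∈ pZero F σ) : σ = 0 := by
  obtain ⟨S, hS, hS'⟩ := exists_rep F σ
  refine eq_of_cover hS ((ProEtS.epsPull X).obj F) _ 0 fun W g hg => ?_
  obtain ⟨V, a, t, h'⟩ := hS' g hg
  rw [map_zero, h']
  exact (rep_eq_zero_iff F a t).2 fun w => (mem_pZero_iff F σ g a t h' w).1 (h _)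

end ProEt

end Groth.Agent.ProEtEps19
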